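import Cfsg.Agent.Lib.SuzType.Iso.CentAData

/-!
A lower bound for the centraliser of the first generator of the presented Suzuki group.
-/

set_option autoImplicit false
set_option maxRecDepth 100000

namespace CfsgLib.CosetEnum.Cert

variable {P : Pres} (C : Cert P) (hlt : ∀ w ∈ P.rels, ∀ x ∈ w, x < P.k)

theorem level_step_in [Finite P.Grp] (hid : ∀ i < P.k, P.idx (P.gen i) = i) (H : Subgroup P.Grp) (prev : List ℕ)
    (L : Level) (hok : L.ok C.T C.D.k prev = true) (hH : ∀ w ∈ L.gens, (w.reverse.map P.σ).prod ∈ H)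
    (hb : L.b < C.T.n) {N : ℕ} (hN : N ≤ Nat.card (C.fixSub hlt (prev ++ [L.b]) ⊓ H : Subgroup P.Grp)) :
    L.m * N ≤ Nat.card (C.fixSub hlt prev ⊓ H : Subgroup P.Grp) := by
  classical
  simp only [Level.ok, Bool.and_eq_true, List.all_eq_true] at hok
  obtain ⟨⟨hfix, hlet⟩, hpts⟩ := hok
  set S := C.fixSub hlt prev ⊓ H
  let act : MulAction S (Fin C.T.n) := MulAction.compHom (Fin C.T.n) ((C.hom hlt).comp S.subtype)
  set b : Fin C.T.n := ⟨L.b, hb⟩
  have hgen : ∀ w ∈ L.gens, (w.reverse.map P.σ).prod ∈ S := fun w hw => ⟨fun d hd => by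
    refine Fin.ext ?_
    rw [C.hom_rev hlt hid w (fun x hx => by
      have := hlet w hw x hx
      rw [blt_iff, C.hk] at this
      exact this)]
    exact Nat.eq_of_beq_eq_true (hfix w hw d hd), hH w hw⟩
  have hpos : ∀ i < L.m, L.okPos C.T C.D.k i = true := fun i hi => by
    have := allN_spec (f := fun i' => force i' (L.okPos C.T C.D.k)) hpts i hi
    rwa [force_eq] at this
  have hreach : ∀ i, ∀ hi : i < L.m, ∃ p : MulAction.orbit S b, ((p : Fin C.T.n) : ℕ) = L.point i := by
    intro i
    induction i using Nat.strong_induction_on with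
    | _ i ih =>
      intro hi
      have h := hpos i hi
      simp only [Level.okPos, force_eq, Bool.and_eq_true] at h
      cases hb0 : Nat.beq i 0 with
      | true =>
        rw [hb0] at h
        exact ⟨⟨b, MulAction.mem_orbit_self b⟩, (Nat.eq_of_beq_eq_true h.2).symm⟩
      | false =>
        rw [hb0] at h
        simp only [Bool.and_eq_true, blt_iff] at h
        obtain ⟨⟨hj, hg⟩, he⟩ := h.2
        obtain ⟨⟨q, hq⟩, hqv⟩ := ih _ hj (hj.trans hi)
        obtain ⟨w, hw, hwe⟩ : ∃ w, w ∈ L.gens ∧ L.gens.getD (fld (entry L.pts 32 48 i) 40 8) [] = w :=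
          ⟨_, List.getD_eq_getElem _ _ hg ▸ List.getElem_mem hg, rfl⟩
        rw [hwe] at he
        refine ⟨⟨(⟨_, hgen w hw⟩ : S) • q, MulAction.mem_orbit_of_mem_orbit _ hq⟩, ?_⟩
        show (C.hom hlt (w.reverse.map P.σ).prod q : ℕ) = _
        rw [C.hom_rev hlt hid w (fun x hx => by
          have := hlet w hw x hx
          rw [blt_iff, C.hk] at this
          exact this), hqv]
        exact Nat.eq_of_beq_eq_true he
  choose f hf using hreach
  have hinj : Function.Injective fun i : Fin L.m => f i i.2 := by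
    intro i j hij
    have hij' : L.point i = L.point j := by
      rw [← hf i i.2, ← hf j j.2]
      exact congrArg (fun p : MulAction.orbit S b => ((p : Fin C.T.n) : ℕ)) hij
    have hi := hpos i i.2
    have hj := hpos j j.2
    simp only [Level.okPos, force_eq, Bool.and_eq_true] at hi hj
    have e1 : entry L.pos 64 20 (L.point i) = i := Nat.eq_of_beq_eq_true hi.1.2
    have e2 : entry L.pos 64 20 (L.point j) = j := Nat.eq_of_beq_eq_true hj.1.2
    rw [hij', e2] at e1
    exact Fin.ext e1.symm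
  have hm : L.m ≤ Nat.card (MulAction.orbit S b) := by
    simpa using Nat.card_le_card_of_injective _ hinj
  have hstab : (MulAction.stabilizer S b).map S.subtype = C.fixSub hlt (prev ++ [L.b]) ⊓ H := by
    ext g
    constructor
    · rintro ⟨⟨g, hg⟩, hgb, rfl⟩
      refine ⟨fun d hd => ?_, hg.2⟩
      rcases List.mem_append.mp hd with hd | hd
      · exact hg.1 d hd
      · have : d = b := Fin.ext (List.mem_singleton.mp hd)
        subst this
        exact hgb
    · intro hg
      exact ⟨⟨g, fun d hd => hg.1 d (List.mem_append_left _ hd), hg.2⟩,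
        hg.1 b (List.mem_append_right _ (List.mem_singleton_self _)), rfl⟩
  have hc := (MulAction.stabilizer S b).card_mul_index
  rw [MulAction.index_stabilizer, ← Nat.card_coe_set_eq] at hc
  rw [← hstab, Subgroup.card_map_of_injective S.subtype_injective] at hN
  rw [← hc, mul_comm (Nat.card _)]
  exact Nat.mul_le_mul hm hN

end CfsgLib.CosetEnum.Cert

namespace CfsgLib.SuzType.CentA

open CfsgLib.CosetEnum CfsgLib.SuzOut

theorem card_cent_ge :
    3317760 ≤ Nat.card (Subgroup.centralizer ({presSuz.σ 0} : Set presSuz.Grp)) := by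
  have hmem : ∀ w : List ℕ, sameEl (w ++ [0]) ([0] ++ w) = true →
      (w.reverse.map presSuz.σ).prod ∈ Subgroup.centralizer ({presSuz.σ 0} : Set presSuz.Grp) := fun w hw => by
    have h := el_eq hw
    rw [el_append, el_append, el_single] at h
    exact Subgroup.mem_centralizer_singleton_iff.mpr h.symm
  have hl : ∀ L : Level, (L.gens.all fun w => sameEl (w ++ [0]) ([0] ++ w)) = true →
      ∀ w ∈ L.gens, (w.reverse.map presSuz.σ).prod ∈ Subgroup.centralizer ({presSuz.σ 0} : Set presSuz.Grp) :=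
    fun L h w hw => hmem w (List.all_eq_true.mp h w hw)
  set H := Subgroup.centralizer ({presSuz.σ 0} : Set presSuz.Grp)
  have h6 : 1 ≤ Nat.card (Suz1782.cert.fixSub Suz1782.hlt [0, 2, 1, 4, 8, 14] ⊓ H : Subgroup presSuz.Grp) :=
    Nat.card_pos
  have h5 := Suz1782.cert.level_step_in Suz1782.hlt hid H [0, 2, 1, 4, 8] lev5 lev5_ok (hl _ lev5_mem)
    (show 14 < 1782 by decide) h6
  have h4 := Suz1782.cert.level_step_in Suz1782.hlt hid H [0, 2, 1, 4] lev4 lev4_ok (hl _ lev4_mem)
    (show 8 < 1782 by decide) h5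
  have h3 := Suz1782.cert.level_step_in Suz1782.hlt hid H [0, 2, 1] lev3 lev3_ok (hl _ lev3_mem)
    (show 4 < 1782 by decide) h4
  have h2 := Suz1782.cert.level_step_in Suz1782.hlt hid H [0, 2] lev2 lev2_ok (hl _ lev2_mem)
    (show 1 < 1782 by decide) h3
  have h1 := Suz1782.cert.level_step_in Suz1782.hlt hid H [0] lev1 lev1_ok (hl _ lev1_mem)
    (show 2 < 1782 by decide) h2
  have h0 := Suz1782.cert.level_step_in Suz1782.hlt hid H [] lev0 lev0_ok (hl _ lev0_mem)
    (show 0 < 1782 by decide) h1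
  refine le_trans ?_ (Nat.le_of_dvd Nat.card_pos (Subgroup.card_dvd_of_le (inf_le_right :
    Suz1782.cert.fixSub Suz1782.hlt [] ⊓ H ≤ H)))
  refine le_trans (le_of_eq ?_) h0
  show 3317760 = 54 * (1024 * (1 * (5 * (4 * (3 * 1)))))
  rfl

end CfsgLib.SuzType.CentA
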