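import Cfsg.Agent.Lib.SuzType.Iso.Rel
import Cfsg.Agent.Lib.SuzType.Iso.CentA
import Cfsg.Agent.Lib.SuzType.Second.FiveZ
import Cfsg.Agent.Lib.SuzType.Second.Norm
import Cfsg.Agent.Lib.SuzType.Second.Sylow
import Cfsg.Agent.Lib.SuzType.NotConj

/-!
Groups of Suzuki sporadic type are isomorphic to Suz.
-/

set_option autoImplicit false
set_option linter.unusedSectionVars false
set_option linter.unusedVariables false
set_option linter.constructorNameAsVariable false
set_option maxRecDepth 100000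

universe u

namespace CfsgLib.SuzType

open CfsgLargeExtra
open CfsgLib.HallJankoType (mem_cent conj_fix_iff)
open CfsgLib.SuzType.Iso (S3 SC mu l21 l32 mA mB mC mF mG)
open CfsgLib.G24 (K)
open CfsgLib.CosetEnum (presSuz)

namespace Iso

/-- The five involutions in order. -/
def five : Fin 5 → S3 := ![mA, mB, mC, mF, mG]

/-- Words for generators of the model. -/
def rootWords : List (S3 × List (Fin 5)) := [(mu 1 0 0, [2, 3]),
    (mu .w 0 0, [0, 1, 2, 3, 1, 0, 1, 2, 3, 1]),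
    (mu 0 1 0, [2, 4]),
    (mu 0 .w 0, [0, 1, 2, 4, 1, 0, 1, 2, 4, 1]),
    (mu 0 0 1, [0]),
    (mu 0 0 .w, [0, 2]),
    (l21 1, [1, 2, 1, 0, 1, 2, 4, 1, 0, 2, 1, 4]),
    (l21 .w, [1, 2, 1, 4, 1, 2]),
    (l32 1, [1, 2, 1, 0, 1, 2, 3, 1, 0, 2, 1, 3]),
    (l32 .w, [1, 2, 1, 3, 1, 2])]

theorem rootWords_ok : ∀ p ∈ rootWords, SC ((p.2.map five).prod * p.1) ∧ p.1 * p.1 = 1 := by decide +kernel

theorem root_sums : ∀ s : K,
    (s = 0 ∨ s = 1 ∨ s = .w ∨ (mu s 0 0 = mu 1 0 0 * mu .w 0 0 ∧ mu 0 s 0 = mu 0 1 0 * mu 0 .w 0 ∧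
      mu 0 0 s = mu 0 0 1 * mu 0 0 .w ∧ l21 s = l21 1 * l21 .w ∧ l32 s = l32 1 * l32 .w)) ∧
    (s = 0 → mu s 0 0 = 1 ∧ mu 0 s 0 = 1 ∧ mu 0 0 s = 1 ∧ l21 s = 1 ∧ l32 s = 1) := by decide +kernel

theorem mu_split : ∀ a c b : K, mu a c b = mu a 0 0 * mu 0 c 0 * mu 0 0 (b + a * c) := by decide +kernel

theorem five_top {H : Subgroup S3} (h5 : ∀ k, five k ∈ H) (hsc : ∀ A, SC A → A ∈ H) : H = ⊤ := by
  have h0 : ∀ p ∈ rootWords, p.1 ∈ H := fun p hp => by
    obtain ⟨e, e2⟩ := rootWords_ok p hp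
    have hm : (p.2.map five).prod ∈ H := list_prod_mem fun g hg => by
      obtain ⟨k, -, rfl⟩ := List.mem_map.mp hg; exact h5 k
    have := mul_mem (inv_mem hm) (hsc _ e)
    rwa [inv_mul_cancel_left] at this
  simp only [rootWords, List.forall_mem_cons] at h0
  obtain ⟨x1, x2, y1, y2, z1, z2, p1, p2, q1, q2, -⟩ := h0
  have hr : ∀ s : K, mu s 0 0 ∈ H ∧ mu 0 s 0 ∈ H ∧ mu 0 0 s ∈ H ∧ l21 s ∈ H ∧ l32 s ∈ H := by
    intro s
    obtain ⟨hs, h0⟩ := root_sums s
    rcases hs with rfl | rfl | rfl | ⟨a, b, c, d, e⟩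
    · obtain ⟨a, b, c, d, e⟩ := h0 rfl
      simp only [a, b, c, d, e]
      exact ⟨one_mem _, one_mem _, one_mem _, one_mem _, one_mem _⟩
    · exact ⟨x1, y1, z1, p1, q1⟩
    · exact ⟨x2, y2, z2, p2, q2⟩
    · simp only [a, b, c, d, e]
      exact ⟨mul_mem x1 x2, mul_mem y1 y2, mul_mem z1 z2, mul_mem p1 p2, mul_mem q1 q2⟩
  refine top_of (fun a c b => ?_) (fun t => (hr t).2.2.2.1) (fun t => (hr t).2.2.2.2)
  rw [mu_split]
  exact mul_mem (mul_mem (hr a).1 (hr c).2.1) (hr _).2.2.1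

end Iso

variable {G : Type u} [Group G] [Finite G]

/-- Two involutions with no common neighbour in a subgroup are conjugate. -/
theorem conj_or_central {y v : G} (hy : y * y = 1) (hv : v * v = 1) :
    IsConj y v ∨ ∃ u : G, u * u = 1 ∧ u ≠ 1 ∧ u * y = y * u ∧ u * v = v * u := by
  have hyi : y⁻¹ = y := inv_eq_of_mul_eq_one_right hy
  have hvi : v⁻¹ = v := inv_eq_of_mul_eq_one_right hv
  have hy' : y * (y * v) * y⁻¹ = (y * v)⁻¹ := by
    rw [mul_inv_rev, hyi, hvi, ← mul_assoc, hy, one_mul]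
  have hv' : v * (y * v) * v⁻¹ = (y * v)⁻¹ := by
    rw [mul_inv_rev, hyi, hvi, mul_assoc, mul_assoc, hv, mul_one]
  obtain ⟨m, e | e⟩ := Nat.even_or_odd' (orderOf (y * v))
  · refine Or.inr ⟨(y * v) ^ m, ?_, ?_, ?_, ?_⟩
    · rw [← pow_add, ← two_mul, ← e, pow_orderOf_eq_one]
    · intro h
      have h' := orderOf_dvd_of_pow_eq_one h
      have hpos := (isOfFinOrder_of_finite (y * v)).orderOf_pos
      rcases Nat.eq_zero_or_pos m with rfl | hm
      · omega
      · have := Nat.le_of_dvd hm h'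
        omega
    all_goals
      refine (conj_fix_iff.mp ?_).symm
      rw [← conj_pow]
      first | rw [hy'] | rw [hv']
      rw [inv_pow]
      refine inv_eq_of_mul_eq_one_right ?_
      rw [← pow_add, ← two_mul, ← e, pow_orderOf_eq_one]
  · refine Or.inl (isConj_iff.mpr ⟨(y * v) ^ m, ?_⟩)
    have h1 : y * ((y * v) ^ m)⁻¹ = (y * v) ^ m * y := by
      have := conj_pow (a := y) (b := y * v) (i := m)
      rw [hy', inv_pow, hyi] at this
      rw [this, ← mul_assoc, ← mul_assoc, hy, one_mul]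
    have h2 : (y * v) ^ m * (y * v) ^ m = v * y := by
      have h3 : (y * v) ^ m * (y * v) ^ m * (y * v) = 1 := by
        rw [← pow_add, ← two_mul, ← pow_succ, ← e, pow_orderOf_eq_one]
      rw [eq_inv_of_mul_eq_one_left h3, mul_inv_rev, hyi, hvi]
    rw [mul_assoc, h1, ← mul_assoc, h2, mul_assoc, hy, mul_one]

namespace Setting

variable {z x t w r : G} {Q : Subgroup G} {π : G → V} {M : G → O6} (S : Setting z x t w r Q π M)
include S

/-- A subgroup with the two centralisers, in which `x` is conjugate to `z`, is everything. -/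
theorem eq_top {H : Subgroup G} (hCz : Subgroup.centralizer ({z} : Set G) ≤ H)
    (hCt : Subgroup.centralizer ({t} : Set G) ≤ H) (hKg : Kg t w ≤ H) : H = ⊤ := by
  have B := S.base
  obtain ⟨-, -, hz1, -, hne, -, htt, ht1, -⟩ := B.cfg.rels
  have hzH : z ∈ H := hCz (mem_cent.mpr rfl)
  have htH : t ∈ H := hCt (mem_cent.mpr rfl)
  have hQH : Q ≤ H := fun q hq => hCz (mem_cent.mpr (S.st.es.comm q hq))
  let zH : H := ⟨z, hzH⟩
  have hcz : ∀ {c : H}, c * zH = zH * c → (c : G) * z = z * c := fun h => congrArg Subtype.val h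
  have hsub : ∀ {q : H}, q ∈ Q.subgroupOf H ↔ (q : G) ∈ Q := Subgroup.mem_subgroupOf
  have hST : ST zH (Q.subgroupOf H) (fun q => π q) (fun q => M q) := by
    refine ⟨⟨hsub.mpr S.st.es.mem, fun e => hz1 (congrArg Subtype.val e),
      fun q hq => Subtype.ext (S.st.es.comm q (hsub.mp hq)),
      fun q hq => (S.st.es.sq q (hsub.mp hq)).imp (fun e => Subtype.ext e) (fun e => Subtype.ext e),
      fun c hc => (S.st.es.cen c fun q hq => congrArg Subtype.val (hc ⟨q, hQH hq⟩ (hsub.mpr hq))).imp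
        (fun e => Subtype.ext e) (fun e => Subtype.ext e),
      fun c hc q hq => hsub.mpr (S.st.es.nor c (hcz hc) q (hsub.mp hq))⟩,
      (Nat.card_congr (Subgroup.subgroupOfEquivOfLe hQH).toEquiv).trans S.st.card,
      fun p hp q hq => S.st.π_mul p (hsub.mp hp) q (hsub.mp hq),
      fun p hp e => (S.st.π_ker p (hsub.mp hp) e).imp (fun e => Subtype.ext e) (fun e => Subtype.ext e),
      fun v => ?_, fun p hp => ?_, fun p hp q hq => ?_, fun c d hc hd => S.st.M_mul c d (hcz hc) (hcz hd),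
      fun c hc q hq => S.st.M_act c (hcz hc) q (hsub.mp hq), fun c hc => (S.st.M_ker c (hcz hc)).trans hsub.symm,
      fun c hc => S.st.M_mem c (hcz hc), fun g hg => ?_, ?_⟩
    · obtain ⟨q, hq, e⟩ := S.st.π_surj v
      exact ⟨⟨q, hQH hq⟩, hsub.mpr hq, e⟩
    · exact ⟨fun e => (S.st.sq p (hsub.mp hp)).mp (congrArg Subtype.val e),
        fun e => Subtype.ext ((S.st.sq p (hsub.mp hp)).mpr e)⟩
    · exact ⟨fun e => (S.st.comm p (hsub.mp hp) q (hsub.mp hq)).mp (congrArg Subtype.val e),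
        fun e => Subtype.ext ((S.st.comm p (hsub.mp hp) q (hsub.mp hq)).mpr e)⟩
    · obtain ⟨c, hc, e⟩ := S.st.M_surj g hg
      exact ⟨⟨c, hCz (mem_cent.mpr hc)⟩, Subtype.ext hc, e⟩
    · obtain ⟨-, k, hk, hkx⟩ := B.hasW_K (B.cfg.Sg_le B.cfg.x_mem) B.cfg.types.1
      refine ⟨⟨k, hKg hk⟩, hsub.mpr ?_, fun e => hne ?_⟩
      · show k * z * k⁻¹ ∈ Q
        rw [hkx]; exact S.hx
      · rw [← hkx]; exact congrArg Subtype.val e
  obtain ⟨x', Q', π', M', P⟩ := hST.exists_pr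
  obtain ⟨s, hs, hsp, -⟩ := P.exists_s
  obtain ⟨t', ht'⟩ := P.exists_typ hs hsp
  have toG : ∀ {p q : H}, IsConj p q → IsConj (p : G) q := fun h => H.subtype.map_isConj h
  obtain ⟨-, -, hzt, -⟩ := B.cfg.types
  have cases' : ∀ y : H, y * y = 1 → y ≠ 1 → IsConj zH y ∨ IsConj (⟨t, htH⟩ : H) y := by
    intro y hy hy1
    rcases P.classify hs hsp ht' hy hy1 with e | e
    · exact Or.inl e
    · refine Or.inr (IsConj.trans ?_ e)
      rcases P.classify hs hsp ht' (y := ⟨t, htH⟩) (Subtype.ext htt) (fun e => ht1 (congrArg Subtype.val e)) with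
        e' | e'
      · exact absurd (toG e') hzt
      · exact e'.symm
  -- centralisers of the involutions
  have hcent : ∀ y : G, y ∈ H → y * y = 1 → y ≠ 1 → ∀ g : G, g * y = y * g → g ∈ H := by
    intro y hyH hy hy1 g hg
    have key : ∀ p : G, Subgroup.centralizer ({p} : Set G) ≤ H → ∀ k : H, (k : G) * p * (k : G)⁻¹ = y → g ∈ H := by
      intro p hp k hk
      have : (k : G)⁻¹ * g * k ∈ H := hp (mem_cent.mpr (by
        calc (k : G)⁻¹ * g * k * p = (k : G)⁻¹ * (g * ((k : G) * p * (k : G)⁻¹)) * k := by group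
          _ = (k : G)⁻¹ * ((k : G) * p * (k : G)⁻¹ * g) * k := by rw [hk, hg]
          _ = p * ((k : G)⁻¹ * g * k) := by group))
      have h' := mul_mem (mul_mem k.2 this) (inv_mem k.2)
      rwa [show (k : G) * ((k : G)⁻¹ * g * k) * (k : G)⁻¹ = g by group] at h'
    rcases cases' ⟨y, hyH⟩ (Subtype.ext hy) (fun e => hy1 (congrArg Subtype.val e)) with e | e
    · obtain ⟨k, hk⟩ := isConj_iff.mp e
      exact key z hCz k (congrArg Subtype.val hk)
    · obtain ⟨k, hk⟩ := isConj_iff.mp e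
      exact key t hCt k (congrArg Subtype.val hk)
  -- every involution lies in `H`
  have hinv : ∀ v : G, v * v = 1 → v ∈ H := by
    intro v hv
    by_contra hvH
    have hv1 : v ≠ 1 := fun e => hvH (e ▸ one_mem _)
    have conjv : ∀ y : G, y ∈ H → y * y = 1 → y ≠ 1 → IsConj y v := by
      intro y hyH hy hy1
      rcases conj_or_central hy hv with e | ⟨u, hu, hu1, huy, huv⟩
      · exact e
      · exact absurd (hcent u (hcent y hyH hy hy1 u huy) hu hu1 v huv.symm) hvH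
    exact hzt ((conjv z hzH S.st.zz hz1).trans (conjv t htH htt ht1).symm)
  refine eq_top_iff.mpr fun g _ => ?_
  have hgz : g * z * g⁻¹ * (g * z * g⁻¹) = 1 := by
    rw [show g * z * g⁻¹ * (g * z * g⁻¹) = g * (z * z) * g⁻¹ by group, S.st.zz]; group
  have hgH := hinv _ hgz
  rcases cases' ⟨g * z * g⁻¹, hgH⟩ (Subtype.ext hgz) (fun e => hz1 (conj_eq_one_iff.mp (congrArg Subtype.val e)))
    with e | e
  · obtain ⟨k, hk⟩ := isConj_iff.mp e
    have hk' : (k : G) * z * (k : G)⁻¹ = g * z * g⁻¹ := congrArg Subtype.val hk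
    have : (k : G)⁻¹ * g ∈ H := hCz (mem_cent.mpr (by
      calc (k : G)⁻¹ * g * z = (k : G)⁻¹ * (g * z * g⁻¹) * g := by group
        _ = (k : G)⁻¹ * ((k : G) * z * (k : G)⁻¹) * g := by rw [hk']
        _ = z * ((k : G)⁻¹ * g) := by group))
    have h' := mul_mem k.2 this
    rwa [mul_inv_cancel_left] at h'
  · exact absurd ((isConj_iff.mpr ⟨g, rfl⟩ : IsConj z (g * z * g⁻¹)).trans (toG e).symm) hzt

/-- The isomorphism. -/
theorem exists_iso : Nonempty (G ≃* Cfsg.Spor.Suz) := by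
  obtain ⟨Ψ, hΨ⟩ := S.exists_model
  obtain ⟨d, φ, hd, hgens, hφa, hφe, hr⟩ := S.exists_hom hΨ
  have B := S.base
  obtain ⟨-, -, hz1, -, -, -, htt, ht1, hww, htw, hw1, hwt, -⟩ := B.cfg.rels
  haveI : IsSimpleGroup Cfsg.Spor.Suz := Cfsg.Agent.S1694.result.1
  haveI : Finite Cfsg.Spor.Suz := Cfsg.Agent.S1694.upper.1
  have hinj : Function.Injective φ := by
    refine (MonoidHom.ker_eq_bot_iff φ).mp ((Subgroup.Normal.eq_bot_or_eq_top inferInstance).resolve_right fun e => ?_)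
    exact hz1 (by rw [← hφa]; exact MonoidHom.mem_ker.mp (e ▸ Subgroup.mem_top _))
  have htH : t ∈ φ.range := ⟨_, hφe⟩
  have hwH : w ∈ φ.range := by
    rw [← S.hw]; exact mul_mem (mul_mem hr htH) (inv_mem hr)
  have hΨH : ∀ A, Ψ A ∈ φ.range := by
    have htop : φ.range.comap Ψ = ⊤ := Iso.five_top (fun k => Subgroup.mem_comap.mpr (by
        fin_cases k
        exacts [hgens 0 (by norm_num), hgens 1 (by norm_num), hgens 2 (by norm_num), hgens 5 (by norm_num),
          hgens 6 (by norm_num)]))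
      fun A hA => Subgroup.mem_comap.mpr (by rw [hΨ.scalar A hA]; exact one_mem _)
    intro A
    exact Subgroup.mem_comap.mp (htop ▸ Subgroup.mem_top A)
  have hKg : Kg t w ≤ φ.range := by
    intro g hg
    obtain ⟨A, v, hv, rfl⟩ := hΨ.split g hg
    refine mul_mem (hΨH A) ?_
    rcases hv with rfl | rfl | rfl | rfl
    exacts [one_mem _, htH, hwH, mul_mem htH hwH]
  have hCz : Subgroup.centralizer ({z} : Set G) ≤ φ.range := by
    let C := Subgroup.centralizer ({presSuz.σ 0} : Set presSuz.Grp)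
    have hσ : φ (presSuz.σ 0) = z := hφa
    have hle : C.map φ ≤ Subgroup.centralizer ({z} : Set G) := by
      rintro _ ⟨c, hc, rfl⟩
      refine mem_cent.mpr ?_
      rw [← hσ, ← map_mul, ← map_mul, mem_cent.mp hc]
    have he : C.map φ = Subgroup.centralizer ({z} : Set G) := by
      refine Subgroup.eq_of_le_of_card_ge hle ?_
      rw [Subgroup.card_map_of_injective hinj, S.st.card_Cz]
      exact CentA.card_cent_ge
    rw [← he]
    exact Subgroup.map_le_range φ C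
  have hCt : Subgroup.centralizer ({t} : Set G) ≤ φ.range := by
    intro g hg
    have hgt := mem_cent.mp hg
    rcases B.norm_w hgt with e | e
    · exact hKg (mem_Kg.mpr ⟨hgt, conj_fix_iff.mp e⟩)
    · obtain ⟨c, hcz, hct, -, hcw⟩ := B.cfg.exists_outer
      have hcH : c ∈ φ.range := hCz (mem_cent.mpr hcz)
      have hk : c⁻¹ * g ∈ Kg t w := by
        refine mem_Kg.mpr ⟨Commute.mul_left (Commute.inv_left hct) hgt, conj_fix_iff.mp ?_⟩
        rw [show c⁻¹ * g * w * (c⁻¹ * g)⁻¹ = c⁻¹ * (g * w * g⁻¹) * c by group, e, ← hcw]; group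
      have h' := mul_mem hcH (hKg hk)
      rwa [mul_inv_cancel_left] at h'
  have hsurj : Function.Surjective φ := MonoidHom.range_eq_top.mp (S.eq_top hCz hCt hKg)
  exact ⟨(MulEquiv.ofBijective φ ⟨hinj, hsurj⟩).symm⟩

end Setting

end CfsgLib.SuzType
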