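import Cfsg.Agent.Lib.SuzType.Second.FiveOrder
import Cfsg.Agent.Lib.SuzType.Second.Outer
import Cfsg.Agent.Lib.HallJankoType.Simple60

/-!
Groups of Suzuki sporadic type: a Sylow five-subgroup is its own centraliser.
-/

set_option autoImplicit false
set_option linter.unusedSectionVars false
set_option linter.unusedVariables false
set_option maxRecDepth 100000

universe u

namespace CfsgLib.SuzType

open CfsgLargeExtra
open CfsgLib.HallJankoType (mem_cent conj_fix_iff)

theorem alt_five_cent_five : ∀ p : alternatingGroup (Fin 5), p ^ 5 = 1 → p ≠ 1 →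
    ∀ q : alternatingGroup (Fin 5), p * q = q * p → q ^ 5 = 1 := by decide +kernel

variable {G : Type u} [Group G] [Finite G] {z x t w : G} {Q : Subgroup G} {π : G → V} {M : G → O6}

namespace Base

variable (B : Base z x t w Q) (h : ST z Q π M)
include B h

/-- The centraliser of an element of order five of `K`, modulo it. -/
theorem cent_quot {b : G} (hb : b ∈ Kg t w) (hbo : orderOf b = 5) :
    ∃ ρ : Subgroup.centralizer ({b} : Set G) →* alternatingGroup (Fin 5),
      ∀ v, ρ v = 1 ↔ (v : G) ∈ Subgroup.zpowers b := by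
  classical
  haveI : Fact (Nat.Prime 5) := ⟨by norm_num⟩
  obtain ⟨-, -, -, -, -, -, htt, ht1, hww, htw, hw1, hwt, -⟩ := B.cfg.rels
  obtain ⟨c, hc1, hc2, hcb⟩ := B.exists_rot_cent (Or.inl rfl) hb hbo
  obtain ⟨hbt, hbw⟩ := mem_Kg.mp hb
  let W := Subgroup.centralizer ({b} : Set G)
  let gg : W := ⟨b, mem_cent.mpr rfl⟩
  let tt : W := ⟨t, mem_cent.mpr hbt.symm⟩
  let ww : W := ⟨w, mem_cent.mpr hbw.symm⟩
  have hW : Nat.card W = 60 * 5 := by
    refine (B.card_cent (Or.inl rfl) hb hbo).resolve_left fun h60 => ?_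
    obtain ⟨P, hP⟩ :=
      (IsPGroup.of_card (G := Subgroup.zpowers b) (n := 1) (by rw [Nat.card_zpowers, hbo, pow_one])).exists_le_sylow
    have hPc := B.card_sylow_five h P
    have : IsMulCommutative (P : Subgroup G) :=
      IsPGroup.isMulCommutative_of_card_eq_prime_sq (p := 5) (by rw [hPc]; norm_num)
    have hle : (P : Subgroup G) ≤ W := fun p hp => mem_cent.mpr (congrArg Subtype.val
      (IsMulCommutative.is_comm.comm (⟨p, hp⟩ : (P : Subgroup G)) ⟨b, hP (Subgroup.mem_zpowers _)⟩))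
    have := Subgroup.card_dvd_of_le hle
    rw [hPc, h60] at this
    norm_num at this
  obtain ⟨-, N, hN, hNn, hiso⟩ := HallJankoType.card_of_four_mod (W := W) (p := 5) (by norm_num) gg tt ww
    ⟨c, mem_cent.mpr hcb⟩ (by rw [Subgroup.orderOf_mk, hbo]) (fun v => Subtype.ext (mem_cent.mp v.2))
    (Subtype.ext htt) (Subtype.ext hww) (Subtype.ext htw) (fun e => ht1 (congrArg Subtype.val e))
    (fun e => hw1 (congrArg Subtype.val e)) (fun e => hwt (congrArg Subtype.val e).symm)
    (by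
      intro v
      constructor
      · intro hv
        obtain ⟨i, u, hu, e⟩ := B.cent_t (Or.inl rfl) hb hbo (congrArg Subtype.val hv) (mem_cent.mp v.2)
        have hcomm : (v : G) = u * b ^ i := by rw [e]; exact (B.cfg.InW_central hu (zpow_mem hb i)).symm
        refine ⟨i, ?_⟩
        rcases hu with rfl | rfl | rfl | rfl
        · exact Or.inl (Subtype.ext (by simpa [gg] using hcomm))
        · exact Or.inr (Or.inl (Subtype.ext (by simpa [gg, tt] using hcomm)))
        · exact Or.inr (Or.inr (Or.inl (Subtype.ext (by simpa [gg, ww] using hcomm))))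
        · exact Or.inr (Or.inr (Or.inr (Subtype.ext (by simpa [gg, tt, ww] using hcomm))))
      · rintro ⟨i, rfl | rfl | rfl | rfl⟩ <;> refine Subtype.ext ?_ <;>
          simp only [Subgroup.coe_mul, Subgroup.coe_zpow, gg, tt, ww]
        · exact (show Commute b t from hbt).zpow_left i
        · exact Commute.mul_left (Commute.refl t) ((show Commute b t from hbt).zpow_left i)
        · exact Commute.mul_left htw.symm ((show Commute b t from hbt).zpow_left i)
        · exact Commute.mul_left (Commute.mul_left (Commute.refl t) htw.symm) ((show Commute b t from hbt).zpow_left i))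
    (Subtype.ext hc1) (Subtype.ext hc2)
  have := hNn
  obtain ⟨e⟩ := hiso hW
  refine ⟨e.toMonoidHom.comp (QuotientGroup.mk' N), fun v => ?_⟩
  show e ((QuotientGroup.mk' N) v) = 1 ↔ _
  rw [MulEquiv.map_eq_one_iff]
  refine (QuotientGroup.eq_one_iff v).trans ?_
  rw [hN]
  simp [Subgroup.mem_zpowers_iff, Subtype.ext_iff, gg]

/-- A Sylow five-subgroup is its own centraliser. -/
theorem cent_sylow_five (P : Sylow 5 G) : Subgroup.centralizer ((P : Subgroup G) : Set G) ≤ (P : Subgroup G) := by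
  classical
  haveI : Fact (Nat.Prime 5) := ⟨by norm_num⟩
  obtain ⟨b, hb, hbo⟩ := B.exists_mem_K (Or.inl rfl : (5 : ℕ) = 5 ∨ (5 : ℕ) = 7)
  obtain ⟨R, hR⟩ :=
    (IsPGroup.of_card (G := Subgroup.zpowers b) (n := 1) (by rw [Nat.card_zpowers, hbo, pow_one])).exists_le_sylow
  obtain ⟨g, hg⟩ := MulAction.exists_smul_eq G R P
  intro y hy
  have hconj : ∀ p ∈ (R : Subgroup G), g * p * g⁻¹ ∈ (P : Subgroup G) := fun p hp => by
    rw [← hg, Sylow.coe_subgroup_smul]
    exact Subgroup.smul_mem_pointwise_smul _ (MulAut.conj g) _ hp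
  obtain ⟨v, hv⟩ : ∃ v, v = g⁻¹ * y * g := ⟨_, rfl⟩
  have hvR : ∀ p ∈ (R : Subgroup G), p * v = v * p := fun p hp => by
    have := Subgroup.mem_centralizer_iff.mp hy _ (hconj p hp)
    rw [hv]
    calc p * (g⁻¹ * y * g) = g⁻¹ * (g * p * g⁻¹ * y) * g := by group
      _ = g⁻¹ * (y * (g * p * g⁻¹)) * g := by rw [this]
      _ = g⁻¹ * y * g * p := by group
  suffices v ∈ (R : Subgroup G) by
    have := hconj v this
    rwa [hv, show g * (g⁻¹ * y * g) * g⁻¹ = y by group] at this
  have hRc := B.card_sylow_five h R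
  haveI hcomm : IsMulCommutative (R : Subgroup G) :=
    IsPGroup.isMulCommutative_of_card_eq_prime_sq (p := 5) (by rw [hRc]; norm_num)
  have hbR : b ∈ (R : Subgroup G) := hR (Subgroup.mem_zpowers b)
  obtain ⟨p, hpR, hpb⟩ : ∃ p ∈ (R : Subgroup G), p ∉ Subgroup.zpowers b := by
    by_contra hh
    push Not at hh
    have := Subgroup.card_dvd_of_le (show (R : Subgroup G) ≤ Subgroup.zpowers b from hh)
    rw [hRc, Nat.card_zpowers, hbo] at this
    norm_num at this
  obtain ⟨ρ, hρ⟩ := B.cent_quot h hb hbo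
  have hRW : ∀ q ∈ (R : Subgroup G), q ∈ Subgroup.centralizer ({b} : Set G) := fun q hq =>
    mem_cent.mpr (congrArg Subtype.val (hcomm.is_comm.comm (⟨q, hq⟩ : (R : Subgroup G)) ⟨b, hbR⟩))
  let pp : Subgroup.centralizer ({b} : Set G) := ⟨p, hRW p hpR⟩
  let vv : Subgroup.centralizer ({b} : Set G) := ⟨v, mem_cent.mpr (hvR b hbR).symm⟩
  have hp1 : ρ pp ≠ 1 := fun e => hpb ((hρ pp).mp e)
  have hp5 : ρ pp ^ 5 = 1 := by
    have h25 : orderOf p ∣ 25 := hRc ▸ Subgroup.orderOf_dvd_natCard _ hpR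
    have hA : orderOf (ρ pp) ∣ 25 := (orderOf_map_dvd ρ pp).trans (by rw [Subgroup.orderOf_mk]; exact h25)
    have h60 : orderOf (ρ pp) ∣ 60 := by
      refine (orderOf_dvd_natCard _).trans (dvd_of_eq ?_)
      rw [nat_card_alternatingGroup]; simp [Nat.factorial]
    exact orderOf_dvd_iff_pow_eq_one.mp ((Nat.dvd_gcd hA h60).trans (by norm_num))
  have hv5 : ρ (vv ^ 5) = 1 := by
    rw [map_pow]
    refine alt_five_cent_five (ρ pp) hp5 hp1 (ρ vv) ?_
    rw [← map_mul, ← map_mul]; exact congrArg ρ (Subtype.ext (hvR p hpR))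
  obtain ⟨i, hi⟩ := Subgroup.mem_zpowers_iff.mp ((hρ _).mp hv5)
  rw [Subgroup.coe_pow] at hi
  have hv25 : v ^ 5 ^ 2 = 1 := by
    rw [pow_two, pow_mul, ← hi, ← zpow_natCast, ← zpow_mul, mul_comm, zpow_mul, zpow_natCast, ← hbo,
      pow_orderOf_eq_one, one_zpow]
  have hvp : IsPGroup 5 (Subgroup.zpowers v) := fun q => ⟨2, Subtype.ext (by
    obtain ⟨j, hj⟩ := Subgroup.mem_zpowers_iff.mp q.2
    rw [SubmonoidClass.coe_pow, ← hj, ← zpow_natCast, ← zpow_mul, mul_comm, zpow_mul, zpow_natCast, hv25, one_zpow]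
    rfl)⟩
  have hnorm : Subgroup.zpowers v ≤ Subgroup.normalizer ((R : Subgroup G) : Set G) := by
    refine Subgroup.zpowers_le.mpr (Subgroup.mem_normalizer_iff.mpr fun q => ⟨fun hq => ?_, fun hq => ?_⟩)
    · rwa [conj_fix_iff.mpr (hvR q hq).symm]
    · have h2 := (hvR _ hq).symm
      have e : v * q * v⁻¹ = q := by
        calc v * q * v⁻¹ = v⁻¹ * (v * (v * q * v⁻¹)) := by group
          _ = v⁻¹ * (v * q * v⁻¹ * v) := by rw [h2]
          _ = q := by group
      rwa [e] at hq
  have hsup := IsPGroup.to_sup_of_normal_right' hvp R.isPGroup' hnorm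
  exact (R.is_maximal' hsup le_sup_right) ▸ (le_sup_left : Subgroup.zpowers v ≤ _) (Subgroup.mem_zpowers v)

end Base

end CfsgLib.SuzType
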