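import Cfsg.Agent.Lib.SuzType.Iso.Model

/-!
Maps from the model to `PSL₃` of a field with four elements.
-/

set_option autoImplicit false
set_option linter.unusedSectionVars false
set_option linter.constructorNameAsVariable false
set_option maxRecDepth 100000

namespace CfsgLib.SuzType.Iso

open Matrix
open CfsgLib.G24 (K)
open CfsgLib.PSLn (upperHom)
open CfsgLib.L34Cover (ut)

set_option linter.unusedVariables false

theorem two_ne {F : Type} [Field F] [Fintype F] (hF : Fintype.card F = 4) : (2 : F) = 0 := by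
  haveI := CfsgLib.PSL34.char_two hF
  exact CharTwo.two_eq_zero

theorem beta_root {F : Type} [Field F] [Fintype F] (hF : Fintype.card F = 4) {β : F} (h0 : β ≠ 0) (h1 : β ≠ 1) :
    β ^ 2 + β + 1 = 0 := by
  have h : (β - 1) * (β ^ 2 + β + 1) = 0 := by linear_combination CfsgLib.PSL34.cube hF h0
  exact (mul_eq_zero.mp h).resolve_left fun e => h1 (sub_eq_zero.mp e)

/-- The map of matrices twisted by a diagonal matrix. -/
def tw {F : Type} [Field F] (φ : K →+* F) (p q : Fˣ) (A : Matrix (Fin 3) (Fin 3) K) : Matrix (Fin 3) (Fin 3) F :=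
  Matrix.diagonal ![(p : F), 1, ((q⁻¹ : Fˣ) : F)] * A.map φ * Matrix.diagonal ![((p⁻¹ : Fˣ) : F), 1, (q : F)]

theorem tw_apply {F : Type} [Field F] (φ : K →+* F) (p q : Fˣ) (A : Matrix (Fin 3) (Fin 3) K) (i j : Fin 3) :
    tw φ p q A i j =
      ![(p : F), 1, ((q⁻¹ : Fˣ) : F)] i * φ (A i j) * ![((p⁻¹ : Fˣ) : F), 1, (q : F)] j := by
  simp [tw, diagonal_mul, mul_diagonal]

theorem tw_one {F : Type} [Field F] (φ : K →+* F) (p q : Fˣ) : tw φ p q 1 = 1 := by
  ext i j
  rw [tw_apply]
  fin_cases i <;> fin_cases j <;> simp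

theorem tw_mul {F : Type} [Field F] (φ : K →+* F) (p q : Fˣ) (A B : Matrix (Fin 3) (Fin 3) K) :
    tw φ p q (A * B) = tw φ p q A * tw φ p q B := by
  have h : Matrix.diagonal ![((p⁻¹ : Fˣ) : F), 1, (q : F)] * Matrix.diagonal ![(p : F), 1, ((q⁻¹ : Fˣ) : F)] =
      (1 : Matrix (Fin 3) (Fin 3) F) := by
    rw [diagonal_mul_diagonal, ← diagonal_one]
    congr 1
    ext i; fin_cases i <;> simp
  rw [tw, tw, tw, Matrix.map_mul]
  simp only [Matrix.mul_assoc]
  rw [← Matrix.mul_assoc (Matrix.diagonal ![((p⁻¹ : Fˣ) : F), 1, (q : F)]) (Matrix.diagonal _), h, Matrix.one_mul]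

theorem tw_det {F : Type} [Field F] (φ : K →+* F) (p q : Fˣ) (A : Matrix (Fin 3) (Fin 3) K) :
    (tw φ p q A).det = φ A.det := by
  rw [tw, det_mul, det_mul, det_diagonal, det_diagonal, Fin.prod_univ_three, Fin.prod_univ_three,
    ← RingHom.mapMatrix_apply, ← RingHom.map_det]
  simp
  field_simp

/-- The twist on the special linear group. -/
def twist {F : Type} [Field F] (φ : K →+* F) (p q : Fˣ) : S3 →* Matrix.SpecialLinearGroup (Fin 3) F where
  toFun A := ⟨tw φ p q A.1, by rw [tw_det, A.2, map_one]⟩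
  map_one' := Subtype.ext (tw_one φ p q)
  map_mul' A B := Subtype.ext (tw_mul φ p q A.1 B.1)

theorem twist_val {F : Type} [Field F] (φ : K →+* F) (p q : Fˣ) (A : S3) : (twist φ p q A).1 = tw φ p q A.1 := rfl

theorem twist_injective {F : Type} [Field F] (φ : K →+* F) (p q : Fˣ) : Function.Injective (twist φ p q) := by
  intro A B h
  have h' := congrArg Subtype.val h
  rw [twist_val, twist_val] at h'
  refine Subtype.ext ?_
  ext i j
  have := congrFun (congrFun h' i) j
  rw [tw_apply, tw_apply] at this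
  refine φ.injective ?_
  fin_cases i <;> fin_cases j <;> simpa using this

/-- The map from the model onto `PSL₃`. -/
def toPSL {F : Type} [Field F] (φ : K →+* F) (p q : Fˣ) :
    S3 →* Matrix.ProjectiveSpecialLinearGroup (Fin 3) F :=
  (QuotientGroup.mk' _).comp (twist φ p q)

variable {F : Type} [Field F] [Fintype F] (φ : K →+* F) (p q : Fˣ)

theorem toPSL_mu (a c b : K) : toPSL φ p q (mu a c b) =
    upperHom F 3 (ut ((p : F) * φ a) ((q : F) * φ c) ((p : F) * q * φ b)) := by
  show QuotientGroup.mk' _ (twist φ p q (mu a c b)) = QuotientGroup.mk' _ _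
  congr 1
  refine Subtype.ext ?_
  ext i j
  rw [twist_val, tw_apply]
  fin_cases i <;> fin_cases j <;> simp [mu, ut] <;> ring

theorem twist_bijective (hF : Fintype.card F = 4) : Function.Bijective (twist φ p q) := by
  classical
  obtain ⟨ε⟩ := CfsgLib.G24.exists_ringEquiv F hF
  refine (Nat.bijective_iff_injective_and_card _).mpr ⟨twist_injective φ p q, le_antisymm ?_ ?_⟩
  · exact Nat.card_le_card_of_injective _ (twist_injective φ p q)
  · refine Nat.card_le_card_of_injective (SpecialLinearGroup.map ε.toRingHom) fun A B h => Subtype.ext ?_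
    ext i j
    exact ε.injective (congrFun (congrFun (congrArg Subtype.val h) i) j)

theorem toPSL_surjective (hF : Fintype.card F = 4) : Function.Surjective (toPSL φ p q) :=
  (QuotientGroup.mk'_surjective _).comp (twist_bijective φ p q hF).2

theorem toPSL_SC {A : S3} (hF : Fintype.card F = 4) (h : SC A) : toPSL φ p q A = 1 := by
  show QuotientGroup.mk' _ (twist φ p q A) = 1
  rw [← MonoidHom.mem_ker, QuotientGroup.ker_mk']
  refine Subgroup.mem_center_iff.mpr fun M => ?_
  obtain ⟨B, rfl⟩ := (twist_bijective φ p q hF).2 M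
  rw [← map_mul, ← map_mul, Subgroup.mem_center_iff.mp h.central B]

end CfsgLib.SuzType.Iso
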