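import Cfsg.Agent.Lib.SuzType.Iso.Lift
import Cfsg.Agent.Lib.SuzType.Second.FiveOrder
import Cfsg.Agent.Lib.SuzType.Second.Outer
import Cfsg.Agent.Lib.HallJankoType.Simple60

/-!
Groups of Suzuki sporadic type: the fourth involution, in the centraliser of an element of order five.
-/

set_option autoImplicit false
set_option linter.unusedSectionVars false
set_option linter.unusedVariables false
set_option maxRecDepth 100000

universe u

namespace CfsgLib.SuzType

open CfsgLargeExtra
open CfsgLib.HallJankoType (mem_cent conj_fix_iff)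
open CfsgLib.SuzType.Iso (S3 SC mu mA mB)

namespace Iso

set_option maxHeartbeats 0 in
set_option synthInstance.maxSize 4000 in
set_option synthInstance.maxHeartbeats 400000 in
theorem alt_five_turn : ∀ r : alternatingGroup (Fin 5), r ^ 3 = 1 → r ≠ 1 → ∀ t : alternatingGroup (Fin 5),
    t * t = 1 → t ≠ 1 → r * t * r⁻¹ * t = t * (r * t * r⁻¹) →
    ∃ δ : alternatingGroup (Fin 5), δ * r * δ = r⁻¹ ∧ δ * δ = 1 ∧ (δ * t) ^ 3 = 1 ∧
      ∀ δ' : alternatingGroup (Fin 5), δ' * r * δ' = r⁻¹ → δ' * δ' = 1 → (δ' * t) ^ 3 = 1 → δ' = δ := by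
  decide +kernel

end Iso

variable {G : Type u} [Group G] [Finite G]

namespace Setting

variable {z x t w r : G} {Q : Subgroup G} {π : G → V} {M : G → O6} (S : Setting z x t w r Q π M)
include S

/-- The element `ab` and the involution which inverts the turning element and centralises it. -/
theorem exists_d {Ψ : S3 →* G} (hΨ : Model z x t w r Q π Ψ) :
    (∃ d : G, d * d = 1 ∧ d * r * d = r⁻¹ ∧ (d * t) ^ 3 = 1 ∧ d * z = z * d ∧ d * Ψ mB = Ψ mB * d) ∧
    orderOf (Ψ mA * Ψ mB) = 5 ∧
    ∀ u : G, u * (Ψ mA * Ψ mB) = Ψ mA * Ψ mB * u → u * r = r * u → ∃ i j : ℤ, u = r ^ i * (Ψ mA * Ψ mB) ^ j := by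
  classical
  haveI : Fact (Nat.Prime 5) := ⟨by norm_num⟩
  have B := S.base
  obtain ⟨-, -, -, -, -, -, htt, ht1, hww, htw, hw1, hwt, -⟩ := B.cfg.rels
  obtain ⟨hr3, -, -, hrw⟩ := S.rot
  set a := Ψ mA with ha
  set b := Ψ mB with hb
  have haz : a = z := hΨ.val_a
  obtain ⟨-, saa, sbb, -⟩ := Iso.mu_facts
  have haa : a * a = 1 := by rw [ha, ← map_mul]; exact hΨ.scalar _ saa
  have hbb : b * b = 1 := by rw [hb, ← map_mul]; exact hΨ.scalar _ sbb
  have hg5 : (a * b) ^ 5 = 1 := by rw [ha, hb, ← map_mul, ← map_pow]; exact hΨ.scalar _ Iso.rel_ab.1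
  have hgo : orderOf (a * b) = 5 := orderOf_eq_prime hg5 fun e =>
    Iso.rel_ab.2 (hΨ.ker _ (by rw [map_mul]; exact e))
  obtain ⟨haK, har⟩ := hΨ.mem mA
  obtain ⟨hbK, hbr⟩ := hΨ.mem mB
  have hgK : a * b ∈ Kg t w := mul_mem haK hbK
  obtain ⟨hgt, hgw⟩ := mem_Kg.mp hgK
  have hgr : r * (a * b) = a * b * r := Commute.mul_right har hbr
  let W := Subgroup.centralizer ({a * b} : Set G)
  let gg : W := ⟨a * b, mem_cent.mpr rfl⟩
  let tt : W := ⟨t, mem_cent.mpr hgt.symm⟩
  let ww : W := ⟨w, mem_cent.mpr hgw.symm⟩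
  let rr : W := ⟨r, mem_cent.mpr hgr⟩
  have hW : Nat.card W = 60 * 5 := by
    refine (B.card_cent (Or.inl rfl) hgK hgo).resolve_left fun h60 => ?_
    obtain ⟨P, hP⟩ :=
      (IsPGroup.of_card (G := Subgroup.zpowers (a * b)) (n := 1) (by rw [Nat.card_zpowers, hgo, pow_one])).exists_le_sylow
    have hPc := B.card_sylow_five S.st P
    haveI : IsMulCommutative (P : Subgroup G) :=
      IsPGroup.isMulCommutative_of_card_eq_prime_sq (p := 5) (by rw [hPc]; norm_num)
    have hle : (P : Subgroup G) ≤ W := fun p hp => mem_cent.mpr (congrArg Subtype.val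
      (IsMulCommutative.is_comm.comm (⟨p, hp⟩ : (P : Subgroup G)) ⟨a * b, hP (Subgroup.mem_zpowers _)⟩))
    have := Subgroup.card_dvd_of_le hle
    rw [hPc, h60] at this
    norm_num at this
  obtain ⟨-, N, hN, hNn, hiso⟩ := HallJankoType.card_of_four_mod (W := W) (p := 5) (by norm_num) gg tt ww rr
    (by rw [Subgroup.orderOf_mk, hgo]) (fun v => Subtype.ext (mem_cent.mp v.2))
    (Subtype.ext htt) (Subtype.ext hww) (Subtype.ext htw) (fun e => ht1 (congrArg Subtype.val e))
    (fun e => hw1 (congrArg Subtype.val e)) (fun e => hwt (congrArg Subtype.val e).symm)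
    (by
      intro v
      constructor
      · intro hv
        obtain ⟨i, u, hu, e⟩ := B.cent_t (Or.inl rfl) hgK hgo (congrArg Subtype.val hv) (mem_cent.mp v.2)
        have hcomm : (v : G) = u * (a * b) ^ i := by rw [e]; exact (B.cfg.InW_central hu (zpow_mem hgK i)).symm
        refine ⟨i, ?_⟩
        rcases hu with rfl | rfl | rfl | rfl
        · exact Or.inl (Subtype.ext (by simpa [gg] using hcomm))
        · exact Or.inr (Or.inl (Subtype.ext (by simpa [gg, tt] using hcomm)))
        · exact Or.inr (Or.inr (Or.inl (Subtype.ext (by simpa [gg, ww] using hcomm))))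
        · exact Or.inr (Or.inr (Or.inr (Subtype.ext (by simpa [gg, tt, ww] using hcomm))))
      · rintro ⟨i, rfl | rfl | rfl | rfl⟩ <;> refine Subtype.ext ?_ <;>
          simp only [Subgroup.coe_mul, Subgroup.coe_zpow, gg, tt, ww]
        · exact (show Commute (a * b) t from hgt).zpow_left i
        · exact Commute.mul_left (Commute.refl t) ((show Commute (a * b) t from hgt).zpow_left i)
        · exact Commute.mul_left htw.symm ((show Commute (a * b) t from hgt).zpow_left i)
        · exact Commute.mul_left (Commute.mul_left (Commute.refl t) htw.symm)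
            ((show Commute (a * b) t from hgt).zpow_left i))
    (Subtype.ext S.hw) (Subtype.ext hrw)
  haveI := hNn
  obtain ⟨e⟩ := hiso hW
  let ρ : W →* alternatingGroup (Fin 5) := e.toMonoidHom.comp (QuotientGroup.mk' N)
  have hρ : Function.Surjective ρ := e.surjective.comp (QuotientGroup.mk'_surjective N)
  have hker : ∀ v : W, ρ v = 1 → ∃ i : ℤ, (v : G) = (a * b) ^ i := fun v hv => by
    have : v ∈ N := (QuotientGroup.eq_one_iff v).mp (by simpa [ρ] using hv)
    rw [hN] at this
    obtain ⟨i, rfl⟩ := Subgroup.mem_zpowers_iff.mp this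
    exact ⟨i, by simp [gg]⟩
  have hsmall : ∀ (i : ℤ) (m : ℕ), m.Coprime 5 → ((a * b) ^ i) ^ m = 1 → (a * b) ^ i = 1 := fun i m hm e1 => by
    have e5 : ((a * b) ^ i) ^ 5 = 1 := by rw [← zpow_natCast, ← zpow_mul, mul_comm, zpow_mul, zpow_natCast, hg5, one_zpow]
    have := pow_gcd_eq_one.mpr ⟨e1, e5⟩
    rwa [hm.gcd_eq_one, pow_one] at this
  -- the image of the turning element and of `t`
  have hρr : ρ rr ^ 3 = 1 := by rw [← map_pow, show rr ^ 3 = 1 from Subtype.ext hr3, map_one]
  have hρr1 : ρ rr ≠ 1 := fun e1 => by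
    obtain ⟨i, hi⟩ := hker rr e1
    have hir : r = 1 := by
      change r = _ at hi
      rw [hi]
      exact hsmall i 3 (by norm_num) (by rw [← hi]; exact hr3)
    exact S.r_t (by rw [hir, one_mul, mul_one])
  have hρt1 : ρ tt ≠ 1 := fun e1 => by
    obtain ⟨i, hi⟩ := hker tt e1
    change t = _ at hi
    exact ht1 (by rw [hi]; exact hsmall i 2 (by norm_num) (by rw [← hi, pow_two, htt]))
  have hρt : ρ tt * ρ tt = 1 := by rw [← map_mul, show tt * tt = 1 from Subtype.ext htt, map_one]
  obtain ⟨δ, hδr, hδ2, hδt, huniq⟩ := Iso.alt_five_turn (ρ rr) hρr hρr1 (ρ tt) hρt hρt1 (by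
    rw [← map_inv, ← map_mul, ← map_mul, ← map_mul, ← map_mul]
    refine congrArg ρ (Subtype.ext ?_)
    show r * t * r⁻¹ * t = t * (r * t * r⁻¹)
    rw [S.hw]; exact htw.symm)
  obtain ⟨v, hv⟩ := hρ δ
  -- the involution
  let d : W := v ^ 5
  have hρd : ρ d = δ := by
    rw [map_pow, hv, pow_succ, pow_succ, pow_succ, pow_succ, pow_one, hδ2, one_mul, hδ2, one_mul]
  have hdd : (d : G) * d = 1 := by
    obtain ⟨i, hi⟩ := hker (v * v) (by rw [map_mul, hv, hδ2])
    have h10 : (d : G) * d = ((v * v : W) : G) ^ 5 := by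
      show ((v ^ 5 : W) : G) * (v ^ 5 : W) = _
      rw [← Subgroup.coe_mul, ← Subgroup.coe_pow, (Commute.refl v).mul_pow]
    rw [h10, hi, ← zpow_natCast, ← zpow_mul, mul_comm, zpow_mul, zpow_natCast, hg5, one_zpow]
  have hdg : (d : G) * (a * b) = a * b * d := mem_cent.mp d.2
  have hdi : (d : G)⁻¹ = d := inv_eq_of_mul_eq_one_right hdd
  have hdr : (d : G) * r * d = r⁻¹ := by
    obtain ⟨i, hi⟩ := hker (d * rr * d * rr) (by rw [map_mul, map_mul, map_mul, hρd, hδr, inv_mul_cancel])
    change (d : G) * r * d * r = _ at hi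
    have h3 : ((a * b) ^ i) ^ 3 = 1 := by
      have hc : Commute ((a * b) ^ i) r := (show Commute (a * b) r from hgr.symm).zpow_left i
      have e3 : ((d : G) * r * d) ^ 3 = 1 := by
        rw [show ((d : G) * r * d) ^ 3 = ((d : G) * r * (d : G)⁻¹) ^ 3 by rw [hdi], conj_pow, hr3, mul_one,
          mul_inv_cancel]
      rw [eq_mul_inv_of_mul_eq hi, hc.inv_right.mul_pow, inv_pow, hr3, inv_one, mul_one] at e3
      exact e3
    rw [eq_mul_inv_of_mul_eq hi, hsmall i 3 (by norm_num) h3, one_mul]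
  have hdt : ((d : G) * t) ^ 3 = 1 := by
    obtain ⟨i, hi⟩ := hker ((d * tt) ^ 3) (by rw [map_pow, map_mul, hρd, hδt])
    change ((d : G) * t) ^ 3 = _ at hi
    have hinv : t * ((d : G) * t) ^ 3 * t⁻¹ = (((d : G) * t) ^ 3)⁻¹ := by
      rw [← conj_pow, ← inv_pow, mul_inv_rev, hdi, inv_eq_of_mul_eq_one_right htt]
      congr 1
      simp only [mul_assoc, htt, mul_one]
    rw [hi, conj_fix_iff.mpr ((show Commute t (a * b) from hgt.symm).zpow_right i)] at hinv
    rw [hi]
    exact hsmall i 2 (by norm_num) (by rw [pow_two]; nth_rw 2 [hinv]; rw [mul_inv_cancel])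
  have hda : Commute (d : G) a := by
    have hmem : a * d * a ∈ W := by
      refine mem_cent.mpr ?_
      have hinvab : a * (a * b) * a = (a * b)⁻¹ := by
        rw [mul_inv_rev, inv_eq_of_mul_eq_one_right haa, inv_eq_of_mul_eq_one_right hbb, ← mul_assoc a, haa, one_mul]
      have hc : Commute (d : G) (a * b)⁻¹ := (show Commute (d : G) (a * b) from hdg).inv_right
      calc a * d * a * (a * b) = a * (d * (a * (a * b) * a)) * a := by simp only [mul_assoc]; rw [haa, mul_one]
        _ = a * ((a * (a * b) * a) * d) * a := by rw [hinvab, hc.eq]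
        _ = a * b * (a * d * a) := by simp only [mul_assoc]; rw [← mul_assoc a a, haa, one_mul]
    have har' : Commute a r := har.symm
    have hat : Commute a t := (mem_Kg.mp haK).1
    have hai : a⁻¹ = a := inv_eq_of_mul_eq_one_right haa
    let d' : W := ⟨a * d * a, hmem⟩
    have h1 : ρ d' * ρ rr * ρ d' = (ρ rr)⁻¹ := by
      rw [← map_mul, ← map_mul, ← map_inv]
      refine congrArg ρ (Subtype.ext ?_)
      show a * d * a * r * (a * d * a) = r⁻¹
      calc a * (d : G) * a * r * (a * d * a) = a * d * (a * r * a) * d * a := by simp only [mul_assoc]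
        _ = a * (d * r * d) * a := by
          rw [har'.eq, mul_assoc r a a, haa, mul_one]; simp only [mul_assoc]
        _ = r⁻¹ := by rw [hdr, har'.inv_right.eq, mul_assoc, haa, mul_one]
    have h2 : ρ d' * ρ d' = 1 := by
      rw [← map_mul, ← map_one ρ]
      refine congrArg ρ (Subtype.ext ?_)
      show a * d * a * (a * d * a) = 1
      calc a * (d : G) * a * (a * d * a) = a * d * (a * a) * d * a := by simp only [mul_assoc]
        _ = a * (d * d) * a := by rw [haa, mul_one]; simp only [mul_assoc]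
        _ = 1 := by rw [hdd, mul_one, haa]
    have h3 : (ρ d' * ρ tt) ^ 3 = 1 := by
      rw [← map_mul, ← map_pow, ← map_one ρ]
      refine congrArg ρ (Subtype.ext ?_)
      show (a * d * a * t) ^ 3 = 1
      rw [show a * (d : G) * a * t = a * (d * t) * a⁻¹ by
        rw [hai, mul_assoc (a * _) a t, hat.eq]; simp only [mul_assoc], conj_pow, hdt, mul_one, mul_inv_cancel]
    have e1 : ρ d' = ρ d := by rw [hρd]; exact huniq _ h1 h2 h3
    obtain ⟨i, hi⟩ := hker (d' * d⁻¹) (by rw [map_mul, map_inv, e1, mul_inv_cancel])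
    change a * d * a * (d : G)⁻¹ = _ at hi
    have hc : Commute ((a * b) ^ i) d := (show Commute (a * b) (d : G) from hdg.symm).zpow_left i
    have e2 : (a * (d : G) * a) ^ 2 = 1 := by
      rw [pow_two]
      calc a * (d : G) * a * (a * d * a) = a * d * (a * a) * d * a := by simp only [mul_assoc]
        _ = a * (d * d) * a := by rw [haa, mul_one]; simp only [mul_assoc]
        _ = 1 := by rw [hdd, mul_one, haa]
    rw [mul_inv_eq_iff_eq_mul.mp hi, hc.mul_pow, pow_two (d : G), hdd, mul_one] at e2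
    have e3 : a * (d : G) * a = d := by
      rw [mul_inv_eq_iff_eq_mul.mp hi, hsmall i 2 (by norm_num) e2, one_mul]
    show (d : G) * a = a * d
    conv_lhs => rw [← e3]
    rw [mul_assoc, haa, mul_one]
  refine ⟨⟨d, hdd, hdr, hdt, haz ▸ hda.eq, ?_⟩, hgo, fun u hu hur => ?_⟩
  · -- `b = a * ab`
    have hb' : b = a * (a * b) := by rw [← mul_assoc, haa, one_mul]
    show (d : G) * b = b * d
    rw [hb']
    exact hda.mul_right hdg
  · -- the centraliser of the turning element in `W`
    let uu : W := ⟨u, mem_cent.mpr hu⟩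
    have hc : ρ rr * ρ uu = ρ uu * ρ rr := by
      rw [← map_mul, ← map_mul]; exact congrArg ρ (Subtype.ext hur.symm)
    obtain ⟨k, hk⟩ : ∃ k : ℤ, ρ uu = ρ rr ^ k := by
      rcases HallJankoType.alt_five_cent_three _ _ hρr hρr1 hc with e1 | e1 | e1
      · exact ⟨0, by rw [e1, zpow_zero]⟩
      · exact ⟨1, by rw [e1, zpow_one]⟩
      · exact ⟨2, by rw [e1, zpow_two]⟩
    obtain ⟨j, hj⟩ := hker (rr ^ (-k) * uu) (by rw [map_mul, map_zpow, hk, ← zpow_add, neg_add_cancel, zpow_zero])
    refine ⟨k, j, ?_⟩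
    change r ^ (-k) * u = _ at hj
    rw [← hj, ← mul_assoc, ← zpow_add, add_neg_cancel, zpow_zero, one_mul]

end Setting

end CfsgLib.SuzType
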