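import Cfsg.Agent.Lib.SuzType.Second.Quot

/-!
Groups of Suzuki sporadic type: a base pair with a turning element.
-/

set_option autoImplicit false
set_option linter.unusedSectionVars false
set_option linter.unusedVariables false
set_option maxRecDepth 100000

universe u

namespace CfsgLib.SuzType

open QuadraticMap
open CfsgLargeExtra
open CfsgLib.HallJankoType (mem_cent conj_fix_iff)

theorem perp_coords : ∀ v : V, bf e0 v = 0 →
    ∃ i j k m n : F2, v = i • e1 + j • f1 + k • e0 + m • d0 + n • d1 := by decide +kernel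

theorem turn_indep : ∀ p q m n : F2,
    (m • (d1 + p • e0 + d0) + n • (d0 + d1 + q • e0 + d1) = 0 → m = 0 ∧ n = 0) ∧
    (m • (d0 + d1 + p • e0 + d0) + n • (d0 + q • e0 + d1) = 0 → m = 0 ∧ n = 0) := by decide +kernel

theorem eqp_smul {v u : V} (h : Eqp e0 v u) : ∃ p : F2, u = v + p • e0 := by
  rcases h with e | e
  · exact ⟨0, by rw [e, zero_smul, add_zero]⟩
  · exact ⟨1, by rw [e, one_smul]⟩

variable {G : Type u} [Group G] [Finite G]

/-- A base pair with a turning element and coordinates at `z`. -/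
structure Setting (z x t w r : G) (Q : Subgroup G) (π : G → V) (M : G → O6) : Prop where
  st : ST z Q π M
  base : Base z x t w Q
  frame : ∃ (s a b : G) (Q' : Subgroup G) (π' : G → V) (M' : G → O6) (F : Fr z x s t a b Q Q' π π' M M'), F.Turn r
  hw : r * t * r⁻¹ = w

theorem ST.exists_setting {z : G} {Q : Subgroup G} {π : G → V} {M : G → O6} (h : ST z Q π M) :
    ∃ (x t w r : G) (π₁ : G → V) (M₁ : G → O6), Setting z x t w r Q π₁ M₁ := by
  obtain ⟨g, hg, hne⟩ := h.fused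
  have P : Pr z (g * z * g⁻¹) Q (cj g Q) π (fun q => π (g⁻¹ * q * g)) M (fun q => M (g⁻¹ * q * g)) :=
    ⟨h, h.conjBy g, hg, h.symm_mem hg, hne⟩
  obtain ⟨s, hs, hsp, -⟩ := P.exists_s
  obtain ⟨t, ht⟩ := P.exists_typ hs hsp
  obtain ⟨a, b, g', -, F⟩ := P.exists_fr hs hsp ht
  obtain ⟨r, hr⟩ := F.exists_turn
  exact ⟨g * z * g⁻¹, t, r * t * r⁻¹, r, _, _, F.pr.h,
    ⟨h.es, ⟨_, _, _, _, _, _, _, _, _, F, r, hr, rfl⟩, ⟨Q, At.self, _, _, _, _, _, _, _, _, _, F, r, hr, rfl⟩,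
      fun y h1 h2 h3 h4 => F.hasW_cent At.self ⟨g, rfl, rfl⟩ hr h1 h2 h3 h4⟩,
    ⟨_, _, _, _, _, _, F, hr⟩, rfl⟩

namespace Setting

variable {z x t w r : G} {Q : Subgroup G} {π : G → V} {M : G → O6} (S : Setting z x t w r Q π M)
include S

theorem rot : r ^ 3 = 1 ∧ r * z = z * r ∧ r * x = x * r ∧ r * w * r⁻¹ = t * w := by
  obtain ⟨s, a, b, Q', π', M', F, hr⟩ := S.frame
  obtain ⟨e, -⟩ := F.turn_mem hr
  rw [S.hw] at e
  exact ⟨hr.1, hr.2.1, hr.2.2.1, e⟩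

theorem r_t : r * t ≠ t * r := by
  intro e
  have hw := S.hw
  rw [conj_fix_iff.mpr e] at hw
  exact S.base.cfg.rels.2.2.2.2.2.2.2.2.2.2.2.1 hw.symm

theorem px : π x = e0 := by
  obtain ⟨s, a, b, Q', π', M', F, hr⟩ := S.frame
  exact F.px

theorem hx : x ∈ Q := by
  obtain ⟨s, a, b, Q', π', M', F, hr⟩ := S.frame
  exact F.pr.hx

theorem t_triv {v : V} (hv : bf e0 v = 0) : Eqp e0 v ((M t).1 v) := by
  obtain ⟨s, a, b, Q', π', M', F, hr⟩ := S.frame
  rcases F.t_img_cases (v := v) (by rw [F.px, bf_comm]; exact hv) with e | e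
  · left
    calc (M t).1 v = v + v + (M t).1 v := by rw [V_add_self, zero_add]
      _ = v := by rw [add_assoc, e, add_zero]
  · right
    calc (M t).1 v = v + v + (M t).1 v := by rw [V_add_self, zero_add]
      _ = v + e0 := by rw [add_assoc, e]

theorem M_e0 {c : G} (hz : c * z = z * c) (hx : c * x = x * c) : (M c).1 e0 = e0 := by
  obtain ⟨s, a, b, Q', π', M', F, hr⟩ := S.frame
  exact F.M_fix hz hx

theorem fix_Sg {y : G} (hy : y ∈ Sg z x t) (hc : IsConj z y) : r * y = y * r := by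
  obtain ⟨s, a, b, Q', π', M', F, hr⟩ := S.frame
  obtain ⟨h1, h2, h3⟩ := mem_Sg.mp hy
  exact F.turn_fix_all hr h1 h2 h3 hc

/-- An involution of `Q` over a vector perpendicular to `e0`, `d0`, `d1`. -/
theorem exists_lift {A : V} (hq : qf A = 0) (h0 : bf e0 A = 0) (ha : bf A d0 = 0) (hb : bf A d1 = 0) :
    ∃ q ∈ Q, π q = A ∧ q * q = 1 ∧ q ∈ Sg z x t ∧ r * q = q * r := by
  obtain ⟨s, a, b, Q', π', M', F, hr⟩ := S.frame
  obtain ⟨q, hqQ, hqA⟩ := F.pr.h.π_surj A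
  have hqq : q * q = 1 := (F.pr.h.sq q hqQ).mpr (by rw [hqA, hq])
  have hqx : q * x = x * q := (F.pr.comm_x hqQ).mpr (by rw [hqA, F.px, bf_comm, h0])
  have hco : F.Co q A 0 := ⟨q, 1, hqQ, hqx, one_mem _, by simp, (mul_one q).symm, h0, bf_zero_right _,
    Or.inl hqA, Or.inl (by show π (s * 1 * s⁻¹ * 1⁻¹) = 0; simp [F.pr.h.π_one])⟩
  have hqt : q * t = t * q := (F.co_commute hco F.co_t).mpr ⟨by rw [bf_zero_left, ha, hb]; simp,
    by rw [bf_zero_left, bf_zero_left, hb]; simp⟩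
  exact ⟨q, hqQ, hqA, hqq, mem_Sg.mpr ⟨F.pr.h.es.comm q hqQ, hqx, hqt⟩, F.turn_fix hr hqQ hqq hqx hqt⟩

theorem lift_e1 : ∃ q ∈ Q, π q = e1 ∧ q * q = 1 ∧ q ∈ Sg z x t ∧ r * q = q * r := by
  obtain ⟨h1, h2, h3, h4⟩ : qf e1 = 0 ∧ bf e0 e1 = 0 ∧ bf e1 d0 = 0 ∧ bf e1 d1 = 0 := by decide +kernel
  exact S.exists_lift h1 h2 h3 h4

theorem lift_f1 : ∃ q ∈ Q, π q = f1 ∧ q * q = 1 ∧ q ∈ Sg z x t ∧ r * q = q * r := by
  obtain ⟨h1, h2, h3, h4⟩ : qf f1 = 0 ∧ bf e0 f1 = 0 ∧ bf f1 d0 = 0 ∧ bf f1 d1 = 0 := by decide +kernel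
  exact S.exists_lift h1 h2 h3 h4

theorem Mr_fix {q : G} (hq : q ∈ Q) (h : r * q = q * r) : (M r).1 (π q) = π q := by
  rw [← S.st.M_act r S.rot.2.1 q hq, conj_fix_iff.mpr h]

/-- The fixed vectors of the turning element perpendicular to `e0`. -/
theorem fixed_perp {v : V} (hr : (M r).1 v = v) (hv : bf e0 v = 0) :
    ∃ i j k : F2, v = i • e1 + j • f1 + k • e0 := by
  obtain ⟨q1, hq1, e1', -, -, h1⟩ := S.lift_e1
  obtain ⟨q2, hq2, e2', -, -, h2⟩ := S.lift_f1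
  have g1 := S.Mr_fix hq1 h1
  have g2 := S.Mr_fix hq2 h2
  rw [e1'] at g1
  rw [e2'] at g2
  obtain ⟨h3, hrz, hrx, -⟩ := S.rot
  have g0 := S.M_e0 hrz hrx
  obtain ⟨s, a, b, Q', π', M', F, ht⟩ := S.frame
  obtain ⟨i, j, k, m, n, rfl⟩ := perp_coords v hv
  have hco := (F.turn_mem ht).2.2.2
  simp only [map_add, map_smul, g0, g1, g2] at hr
  have key : m • ((M r).1 d0 + d0) + n • ((M r).1 d1 + d1) = 0 := by
    calc m • ((M r).1 d0 + d0) + n • ((M r).1 d1 + d1)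
        = (i • e1 + j • f1 + k • e0 + m • (M r).1 d0 + n • (M r).1 d1) +
          (i • e1 + j • f1 + k • e0 + m • d0 + n • d1) := by
          have h0 := V_add_self (i • e1 + j • f1 + k • e0)
          rw [smul_add, smul_add]
          calc m • (M r).1 d0 + m • d0 + (n • (M r).1 d1 + n • d1)
              = ((i • e1 + j • f1 + k • e0) + (i • e1 + j • f1 + k • e0)) +
                (m • (M r).1 d0 + m • d0 + (n • (M r).1 d1 + n • d1)) := by rw [h0, zero_add]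
            _ = _ := by abel
      _ = 0 := by rw [hr]; exact V_add_self _
  refine ⟨i, j, k, ?_⟩
  suffices h : m = 0 ∧ n = 0 by rw [h.1, h.2, zero_smul, zero_smul, add_zero, add_zero]
  rcases F.turn_co ht with hh | hh <;> obtain ⟨u1, u2⟩ := F.co_unique hh hco <;>
    obtain ⟨p, hp⟩ := eqp_smul u1 <;> obtain ⟨q, hq⟩ := eqp_smul u2 <;> rw [hp, hq] at key
  · exact (turn_indep p q m n).1 key
  · exact (turn_indep p q m n).2 key

end Setting

end CfsgLib.SuzType
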