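import Cfsg.Agent.Lib.SuzType.Iso.Frame
import Cfsg.Agent.Lib.SuzType.Second.CentT
import Cfsg.Agent.Lib.SuzType.Iso.Coords

/-!
Groups of Suzuki sporadic type: the centraliser of the four group and of a turning element is `PSL₃(4)`, with
coordinates in the model.
-/

set_option autoImplicit false
set_option linter.unusedSectionVars false
set_option linter.unusedVariables false
set_option linter.style.haveILetI false
set_option maxRecDepth 100000

universe u

namespace CfsgLib.SuzType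

open QuadraticMap
open CfsgLargeExtra
open CfsgLib.HallJankoType (mem_cent conj_fix_iff)
open CfsgLib.PSLn (upper upperHom upperSylow)
open CfsgLib.L34Cover (ut)
open CfsgLib.SuzType.Iso (S3 SC mu toPSL)

variable {G : Type u} [Group G] [Finite G]

/-- The elements of `Q` in the centraliser of the four group and the turning element. -/
def Good (z x t r : G) (Q : Subgroup G) (π : G → V) (q : G) : Prop :=
  q ∈ Q ∧ bf e0 (π q) = 0 ∧ q * t = t * q ∧ r * q = q * r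

/-- The lifted model. -/
structure Model (z x t w r : G) (Q : Subgroup G) (π : G → V) (Ψ : S3 →* G) : Prop where
  val_a : Ψ (mu 0 0 1) = z
  val_x : Ψ (mu 0 0 .w) = x
  mem : ∀ A, Ψ A ∈ Kg t w ∧ r * Ψ A = Ψ A * r
  surj : ∀ g ∈ Kg t w, r * g = g * r → ∃ A, Ψ A = g
  split : ∀ g ∈ Kg t w, ∃ A, ∃ v, InW t w v ∧ g = Ψ A * v
  scalar : ∀ A, SC A → Ψ A = 1
  ker : ∀ A, Ψ A = 1 → SC A
  side1 : ∀ s, Good z x t r Q π (Ψ (mu 1 0 s))
  side2 : ∀ s, Good z x t r Q π (Ψ (mu 0 1 s))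

namespace Iso

open CfsgLib.G24 (K)

variable {F : Type} [Field F] [Fintype F]

theorem ut_mul (a c b a' c' b' : F) : ut a c b * ut a' c' b' = ut (a + a') (c + c') (b + b' + a * c') := by
  obtain ⟨h1, h2, h3⟩ := CfsgLib.L34Cover.mul_entries (ut a c b) (ut a' c' b')
  refine CfsgLib.L34Cover.ext_entries _ _ ?_ ?_ ?_
  · rw [h1]; rfl
  · rw [h2]; rfl
  · rw [h3]; rfl

theorem ut_one : ut (0 : F) 0 0 = 1 := by
  obtain ⟨h1, h2, h3⟩ := CfsgLib.L34Cover.one_entries (F := F)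
  exact CfsgLib.L34Cover.ext_entries _ _ h1.symm h2.symm h3.symm

theorem exists_ut (A : upper F 3) : ∃ a c b, A = ut a c b :=
  ⟨_, _, _, CfsgLib.L34Cover.ext_entries A (ut (A.1.1 0 1) (A.1.1 1 2) (A.1.1 0 2)) rfl rfl rfl⟩

theorem ut_inj {a c b a' c' b' : F} (h : ut a c b = ut a' c' b') : a = a' ∧ c = c' ∧ b = b' :=
  ⟨congrArg (fun A : upper F 3 => A.1.1 0 1) h, congrArg (fun A : upper F 3 => A.1.1 1 2) h,
    congrArg (fun A : upper F 3 => A.1.1 0 2) h⟩

theorem center_of_toPSL {φ : K →+* F} {p q : Fˣ} (hF : Fintype.card F = 4) {A : S3} (h : toPSL φ p q A = 1) :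
    SC A := by
  have hc : twist φ p q A ∈ Subgroup.center _ := (QuotientGroup.eq_one_iff _).mp h
  have hA : A ∈ Subgroup.center S3 := Subgroup.mem_center_iff.mpr fun B => twist_injective φ p q (by
    rw [map_mul, map_mul]; exact Subgroup.mem_center_iff.mp hc _)
  obtain ⟨k, -, hk⟩ := Matrix.SpecialLinearGroup.mem_center_iff.mp hA
  exact ⟨k, by rw [← hk, Matrix.smul_one_eq_diagonal]; rfl⟩

end Iso

namespace Setting

open CfsgLib.G24 (K)

variable {z x t w r : G} {Q : Subgroup G} {π : G → V} {M : G → O6} (S : Setting z x t w r Q π M)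
include S

theorem good_mul {p q : G} (hp : Good z x t r Q π p) (hq : Good z x t r Q π q) : Good z x t r Q π (p * q) := by
  obtain ⟨p1, p2, p3, p4⟩ := hp
  obtain ⟨q1, q2, q3, q4⟩ := hq
  exact ⟨mul_mem p1 q1, by rw [S.st.π_mul p p1 q q1, bf_add_right, p2, q2, add_zero],
    Commute.mul_left p3 q3, Commute.mul_right p4 q4⟩

theorem good_z : Good z x t r Q π z :=
  ⟨S.st.es.mem, by rw [S.st.π_z, bf_zero_right], S.base.cfg.rels.2.2.2.2.2.2.2.2.2.2.2.2.1.symm, S.rot.2.1⟩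

theorem good_x : Good z x t r Q π x :=
  ⟨S.hx, by rw [S.px, bf_e0_e0], S.base.cfg.rels.2.2.2.2.2.2.2.2.2.2.2.2.2.1.symm, S.rot.2.2.1⟩

/-- The model of the centraliser. -/
theorem exists_model : ∃ Ψ : S3 →* G, Model z x t w r Q π Ψ := by
  classical
  haveI : Fact (Nat.Prime 2) := ⟨Nat.prime_two⟩
  have B := S.base
  obtain ⟨hzz, hxx, hz1, hx1, hne, hzx, htt, ht1, hww, htw, hw1, hwt, htz, htx, hwz, hwx⟩ := B.cfg.rels
  obtain ⟨hr3, hrz, hrx, hrw⟩ := S.rot
  let mkW := QuotientGroup.mk' (Wg t w)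
  obtain ⟨F, iF, iFt, h4, ⟨ψ⟩⟩ := B.quot_L34
  haveI := CfsgLib.PSL34.char_two h4
  let ι0 : Kg t w →* Matrix.ProjectiveSpecialLinearGroup (Fin 3) F := ψ.toMonoidHom.comp mkW
  have hι0 : Function.Surjective ι0 := ψ.surjective.comp (QuotientGroup.mk'_surjective _)
  obtain ⟨P1, hP1⟩ := (B.cfg.Sg_pgroup.of_equiv (Subgroup.subgroupOfEquivOfLe B.cfg.Sg_le).symm).exists_le_sylow
  have hP1S : ∀ a : Kg t w, a ∈ P1 ↔ (a : G) ∈ Sg z x t := fun a =>
    ⟨fun ha => B.cfg.Sg_max ((P1 : Subgroup (Kg t w)).map (Kg t w).subtype) (P1.isPGroup'.map _)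
      (Subgroup.map_subtype_le _) (fun q hq => ⟨⟨q, B.cfg.Sg_le hq⟩, hP1 hq, rfl⟩) ⟨a, ha, rfl⟩, fun ha => hP1 ha⟩
  let T := P1.mapSurjective hι0
  obtain ⟨m, hm⟩ := MulAction.exists_smul_eq (Matrix.ProjectiveSpecialLinearGroup (Fin 3) F) T
    (upperSylow (F := F) (n := 3) 2)
  let ι : Kg t w →* Matrix.ProjectiveSpecialLinearGroup (Fin 3) F := (MulAut.conj m).toMonoidHom.comp ι0
  have hι : Function.Surjective ι := (MulAut.conj m).surjective.comp hι0
  have hker : ∀ a : Kg t w, ι a = 1 ↔ InW t w (a : G) := by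
    intro a
    show MulAut.conj m (ψ (mkW a)) = 1 ↔ _
    rw [MulEquiv.map_eq_one_iff, MulEquiv.map_eq_one_iff]
    exact (QuotientGroup.eq_one_iff a).trans B.cfg.mem_Wg
  have hι_eq : ∀ a b : Kg t w, ι a = ι b ↔ mkW a = mkW b := fun a b =>
    ⟨fun h => ψ.injective ((MulAut.conj m).injective h), fun h => congrArg (fun q => MulAut.conj m (ψ q)) h⟩
  have hup : ∀ a : Kg t w, (a : G) ∈ Sg z x t → ∃ A : upper F 3, ι a = upperHom F 3 A := by
    intro a ha
    have : ι a ∈ ((upperSylow (F := F) (n := 3) 2 : Sylow 2 _) : Subgroup _) := by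
      rw [← hm, Sylow.coe_subgroup_smul]
      refine Subgroup.smul_mem_pointwise_smul _ (MulAut.conj m) _ ?_
      rw [Sylow.coe_mapSurjective]
      exact ⟨a, (hP1S a).mpr ha, rfl⟩
    rw [CfsgLib.PSLn.coe_upperSylow] at this
    obtain ⟨A, hA⟩ := this
    exact ⟨A, hA.symm⟩
  have hdown : ∀ A : upper F 3, ∃ a : Kg t w, (a : G) ∈ Sg z x t ∧ ι a = upperHom F 3 A := by
    intro A
    have : upperHom F 3 A ∈ ((upperSylow (F := F) (n := 3) 2 : Sylow 2 _) : Subgroup _) := by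
      rw [CfsgLib.PSLn.coe_upperSylow]; exact ⟨A, rfl⟩
    rw [← hm, Sylow.coe_subgroup_smul] at this
    obtain ⟨q, hq, e⟩ := Subgroup.mem_smul_pointwise_iff_exists _ _ _ |>.mp this
    rw [Sylow.coe_mapSurjective] at hq
    obtain ⟨a, ha, rfl⟩ := hq
    exact ⟨a, (hP1S a).mp ha, e⟩
  have hinj : Function.Injective (upperHom F 3) := CfsgLib.PSLn.upperHom_injective
  -- the elements of the frame
  let zk : Kg t w := ⟨z, B.cfg.Sg_le B.cfg.z_mem⟩
  let xk : Kg t w := ⟨x, B.cfg.Sg_le B.cfg.x_mem⟩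
  have central : ∀ a : Kg t w, (a : G) ∈ Sg z x t → (∀ c ∈ Sg z x t, c * (a : G) = a * c) →
      ∃ b, ι a = upperHom F 3 (ut 0 0 b) := by
    intro a ha hc
    obtain ⟨A, hA⟩ := hup a ha
    obtain ⟨p, q, b, rfl⟩ := Iso.exists_ut A
    have hco : ∀ U : upper F 3, U * ut p q b = ut p q b * U := by
      intro U
      obtain ⟨c, hcS, hce⟩ := hdown U
      refine hinj ?_
      rw [map_mul, map_mul, ← hce, ← hA, ← map_mul, ← map_mul]
      exact congrArg ι (Subtype.ext (hc c hcS))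
    have e1 := hco (ut 1 0 0)
    have e2 := hco (ut 0 1 0)
    rw [Iso.ut_mul, Iso.ut_mul] at e1 e2
    have k1 := (Iso.ut_inj e1).2.2
    have k2 := (Iso.ut_inj e2).2.2
    simp only [zero_add, add_zero, one_mul, mul_zero, mul_one, zero_mul] at k1 k2
    have hq : q = 0 := by linear_combination k1
    have hp : p = 0 := by linear_combination -k2
    exact ⟨b, by rw [hA, hp, hq]⟩
  obtain ⟨b0, hb0⟩ := central zk B.cfg.z_mem fun c hc => (mem_Sg.mp hc).1
  obtain ⟨b1, hb1⟩ := central xk B.cfg.x_mem fun c hc => (mem_Sg.mp hc).2.1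
  obtain ⟨cx, -⟩ := B.cfg.types
  have hb00 : b0 ≠ 0 := fun h => by
    rw [h, Iso.ut_one, map_one] at hb0
    exact (conj_z_props B.cfg (IsConj.refl z)).2.2 (((hker zk).mp hb0).resolve_left hz1)
  have hb10 : b1 ≠ 0 := fun h => by
    rw [h, Iso.ut_one, map_one] at hb1
    exact (conj_z_props B.cfg cx).2.2 (((hker xk).mp hb1).resolve_left hx1)
  have hb01 : b1 ≠ b0 := fun h => by
    rw [h, ← hb0] at hb1
    exact hne (congrArg Subtype.val (B.uniq' (y := xk) (y' := zk) cx (IsConj.refl z) ((hι_eq xk zk).mp hb1)))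
  -- the two sides
  obtain ⟨q1, hq1, he1, s1, S1, r1⟩ := S.lift_e1
  obtain ⟨q2, hq2, he2, s2, S2, r2⟩ := S.lift_f1
  let k1 : Kg t w := ⟨q1, B.cfg.Sg_le S1⟩
  let k2 : Kg t w := ⟨q2, B.cfg.Sg_le S2⟩
  obtain ⟨A1, hA1⟩ := hup k1 S1
  obtain ⟨A2, hA2⟩ := hup k2 S2
  obtain ⟨a1, c1, d1', rfl⟩ := Iso.exists_ut A1
  obtain ⟨a2, c2, d2', rfl⟩ := Iso.exists_ut A2
  have hz12 : q1 * q2 * q1⁻¹ * q2⁻¹ = z := by
    have h12 : q1 * q2 ≠ q2 * q1 := fun e => by
      have := (S.st.comm q1 hq1 q2 hq2).mp e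
      rw [he1, he2] at this
      have h1 : bf e1 f1 = 1 := f1_facts.2.2.1
      rw [show bf e1 f1 = QuadraticMap.polar qf e1 f1 from rfl, this] at h1
      exact zero_ne_one h1
    have e := S.st.conj_Q hq1 hq2
    rw [if_neg fun h => h12 ((S.st.comm q1 hq1 q2 hq2).mpr h)] at e
    rw [e, S.st.es.comm q2 hq2, mul_assoc, mul_inv_cancel, mul_one]
  have hsq : ∀ (a : Kg t w) p q d, ι a = upperHom F 3 (ut p q d) → (a : G) * a = 1 → p * q = 0 := by
    intro a p q d ha h1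
    have : ι (a * a) = 1 := by rw [show a * a = 1 from Subtype.ext h1, map_one]
    rw [map_mul, ha, ← map_mul, Iso.ut_mul] at this
    have h2 := (Iso.ut_inj ((hinj (this.trans (map_one _).symm)).trans Iso.ut_one.symm)).2.2
    linear_combination h2 - d * Iso.two_ne h4
  have p1 := hsq k1 _ _ _ hA1 s1
  have p2 := hsq k2 _ _ _ hA2 s2
  have p12 : a1 * c2 + a2 * c1 = b0 := by
    have e : ι (k1 * k2) = ι (zk * (k2 * k1)) := congrArg ι (Subtype.ext (by
      show q1 * q2 = z * (q2 * q1)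
      rw [← hz12]; group))
    rw [map_mul, map_mul, map_mul, hA1, hA2, hb0, ← map_mul, ← map_mul, ← map_mul, Iso.ut_mul, Iso.ut_mul,
      Iso.ut_mul] at e
    have h2 := (Iso.ut_inj (hinj e)).2.2
    linear_combination h2 + (a2 * c1) * Iso.two_ne h4
  -- normalise the roles
  obtain ⟨g1, g2, pa, pc, d1, d2, hg1, hg2, G1, G2, hpa, hpc, hI1, hI2⟩ : ∃ (g1 g2 : Kg t w) (pa pc d1 d2 : F),
      pa ≠ 0 ∧ pc ≠ 0 ∧ Good z x t r Q π (g1 : G) ∧ Good z x t r Q π (g2 : G) ∧ pa * pc = b0 ∧ True ∧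
        ι g1 = upperHom F 3 (ut pa 0 d1) ∧ ι g2 = upperHom F 3 (ut 0 pc d2) := by
    have G1 : Good z x t r Q π (k1 : G) := ⟨hq1, by rw [he1]; exact basis_eqs.2.2.2.2.1, (mem_Sg.mp S1).2.2, r1⟩
    have G2 : Good z x t r Q π (k2 : G) := ⟨hq2, by rw [he2]; exact basis_eqs.2.2.2.2.2.1, (mem_Sg.mp S2).2.2, r2⟩
    by_cases ha : a1 = 0
    · rw [ha, zero_mul, zero_add] at p12
      have h21 : a2 ≠ 0 := fun h => hb00 (by rw [← p12, h, zero_mul])
      have h22 : c2 = 0 := (mul_eq_zero.mp p2).resolve_left h21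
      have h11 : c1 ≠ 0 := fun h => hb00 (by rw [← p12, h, mul_zero])
      rw [h22] at hA2
      rw [ha] at hA1
      exact ⟨k2, k1, a2, c1, d2', d1', h21, h11, G2, G1, p12, trivial, hA2, hA1⟩
    · have h12 : c1 = 0 := (mul_eq_zero.mp p1).resolve_left ha
      rw [h12, mul_zero, add_zero] at p12
      have h22 : c2 ≠ 0 := fun h => hb00 (by rw [← p12, h, mul_zero])
      have h21 : a2 = 0 := (mul_eq_zero.mp p2).resolve_right h22
      rw [h12] at hA1
      rw [h21] at hA2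
      exact ⟨k1, k2, a1, c2, d1', d2', ha, h22, G1, G2, p12, trivial, hA1, hA2⟩
  have hββ : (b1 / b0) ^ 2 + b1 / b0 + 1 = 0 :=
    Iso.beta_root h4 (div_ne_zero hb10 hb00) fun h => hb01 ((div_eq_one_iff_eq hb00).mp h)
  let φ := Iso.fieldHom (b1 / b0) hββ (Iso.two_ne h4)
  let μ := toPSL φ (Units.mk0 pa hg1) (Units.mk0 pc hg2)
  have μmu : ∀ a c b : K, μ (mu a c b) = upperHom F 3 (ut (pa * φ a) (pc * φ c) (b0 * φ b)) := fun a c b => by
    rw [← hpa]
    exact Iso.toPSL_mu φ _ _ a c b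
  have hμs : Function.Surjective μ := Iso.toPSL_surjective φ _ _ h4
  have hzι : ι zk = μ (mu 0 0 1) := by rw [μmu, hb0, map_zero, map_one, mul_zero, mul_zero, mul_one]
  have hxι : ι xk = μ (mu 0 0 .w) := by
    rw [μmu, hb1, map_zero, mul_zero, mul_zero,
      show φ .w = b1 / b0 from rfl, mul_div_cancel₀ _ hb00]
  -- the turning element on the quotient
  have hr2 : r * w * r⁻¹ = t * w := hrw
  let α : Kg t w →* Kg t w :=
    { toFun := fun g => ⟨r * g * r⁻¹, B.rot_mem_K S.hw hr2 g.2⟩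
      map_one' := Subtype.ext (by show r * 1 * r⁻¹ = 1; group)
      map_mul' := fun g h => Subtype.ext (by
        show r * ((g : G) * h) * r⁻¹ = r * g * r⁻¹ * (r * h * r⁻¹); group) }
  have αW : ∀ a b : Kg t w, ι a = ι b → ι (α a) = ι (α b) := by
    intro a b h
    rw [← mul_inv_eq_one, ← map_inv, ← map_mul, hker] at h ⊢
    rw [← map_inv, ← map_mul]
    show InW t w (r * ((a * b⁻¹ : Kg t w) : G) * r⁻¹)
    rcases h with e | e | e | e <;> rw [e]
    · exact Or.inl (by group)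
    · exact Or.inr (Or.inr (Or.inl S.hw))
    · exact Or.inr (Or.inr (Or.inr hr2))
    · refine Or.inr (Or.inl ?_)
      rw [show r * (t * w) * r⁻¹ = r * t * r⁻¹ * (r * w * r⁻¹) by group, S.hw, hr2, ← mul_assoc, ← htw, mul_assoc,
        hww, mul_one]
  let Fx : Subgroup (Kg t w) := MonoidHom.eqLocus (ι.comp α) ι
  have hS : ∀ a : Kg t w, (a : G) ∈ Sg z x t → a ∈ Fx := by
    have hle : Sg z x t ≤ Fx.map (Kg t w).subtype := by
      refine B.cfg.Sg_gen.trans ((Subgroup.closure_le _).mpr ?_)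
      rintro q (⟨hq, hqc⟩ | hq)
      · refine ⟨⟨q, B.cfg.Sg_le hq⟩, congrArg ι (Subtype.ext ?_), rfl⟩
        show r * q * r⁻¹ = q
        exact conj_fix_iff.mpr (S.fix_Sg hq hqc)
      · have hv : InW t w q := by
          rcases hq with rfl | rfl
          exacts [Or.inr (Or.inl rfl), Or.inr (Or.inr (Or.inl rfl))]
        refine ⟨⟨q, B.cfg.Sg_le (B.cfg.InW_mem hv)⟩, ?_, rfl⟩
        show ι (α ⟨q, _⟩) = ι ⟨q, _⟩
        have hq' : ι ⟨q, B.cfg.Sg_le (B.cfg.InW_mem hv)⟩ = 1 := (hker _).mpr hv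
        rw [hq', hker]
        show InW t w (r * q * r⁻¹)
        rcases hq with rfl | rfl
        · exact Or.inr (Or.inr (Or.inl S.hw))
        · exact Or.inr (Or.inr (Or.inr hr2))
    intro a ha
    obtain ⟨a', ha', e⟩ := hle ha
    exact Subtype.ext e ▸ ha'
  have step : ∀ g : Kg t w, g * zk * g⁻¹ ∈ Fx → g ∈ Fx := by
    intro g hg
    have hg' : ι (α (g * zk * g⁻¹)) = ι (g * zk * g⁻¹) := hg
    have hz' : α zk = zk := Subtype.ext (conj_fix_iff.mpr hrz)
    simp only [map_mul, map_inv, hz'] at hg'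
    have hk : ι (g⁻¹ * α g) * ι zk = ι zk * ι (g⁻¹ * α g) := by
      simp only [map_mul, map_inv]
      calc (ι g)⁻¹ * ι (α g) * ι zk = (ι g)⁻¹ * (ι (α g) * ι zk * (ι (α g))⁻¹) * ι (α g) := by group
        _ = _ := by rw [hg']; group
    obtain ⟨c, hc⟩ : ∃ c, c = g⁻¹ * α g := ⟨_, rfl⟩
    rw [← hc, ← map_mul, ← map_mul, hι_eq, map_mul, map_mul] at hk
    have hcz := congrArg Subtype.val (B.comm_lift (c := c) (y := zk) (IsConj.refl z) hk)
    have hcS : (c : G) ∈ Sg z x t := B.cfg.mem_Sg_of_K c.2 hcz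
    have hαc : ι (α c) = ι c := hS c hcS
    have h1 : ι (α g) = ι (g * c) := by rw [hc, mul_inv_cancel_left]
    have h2 : ι (α (α g)) = ι (g * c * c) := by
      rw [αW _ _ h1]; simp only [map_mul, h1, hαc]
    have h3 : ι (α (α (α g))) = ι (g * c * c * c) := by
      rw [αW _ _ h2]; simp only [map_mul, h1, hαc]
    have h4' : α (α (α g)) = g := Subtype.ext (by
      show r * (r * (r * g * r⁻¹) * r⁻¹) * r⁻¹ = (g : G)
      rw [show r * (r * (r * (g : G) * r⁻¹) * r⁻¹) * r⁻¹ = r ^ 3 * g * (r ^ 3)⁻¹ by simp [pow_succ, mul_assoc], hr3]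
      simp)
    rw [h4', map_mul, map_mul, map_mul] at h3
    have hc3 : ι c * ι c * ι c = 1 := by
      have := congrArg (fun q => (ι g)⁻¹ * q) h3
      simpa [mul_assoc] using this.symm
    obtain ⟨h1z, h1x, h1t⟩ := mem_Sg.mp hcS
    have hc4 : ι c * ι c * ι c * ι c = 1 := by
      rw [← map_mul, ← map_mul, ← map_mul,
        show c * c * c * c = 1 from Subtype.ext (by
          show (c : G) * c * c * c = 1
          rw [← B.cfg.pow_four h1z h1x h1t]; simp [pow_succ, mul_assoc]), map_one]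
    rw [hc3, one_mul] at hc4
    show ι (α g) = ι g
    rw [h1, map_mul, hc4, mul_one]
  have hall : ∀ g : Kg t w, g ∈ Fx := by
    have hmem : ∀ g, ι g ∈ Fx.map ι → g ∈ Fx := by
      rintro g ⟨g', hg', e⟩
      show ι (α g) = ι g
      rw [← e, αW _ _ e.symm]
      exact hg'
    have hH : (Fx.map ι).comap μ = ⊤ := by
      have hu : ∀ a c b, μ (mu a c b) ∈ Fx.map ι := fun a c b => by
        obtain ⟨g, hgS, hge⟩ := hdown (ut (pa * φ a) (pc * φ c) (b0 * φ b))
        exact ⟨g, hS g hgS, by rw [hge, μmu]⟩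
      have hlow : ∀ L : S3, L * L = 1 → ∀ a c, L * mu 0 0 1 * L = mu a c 1 → μ L ∈ Fx.map ι := by
        intro L hL a c e
        obtain ⟨g, hg⟩ := hι (μ L)
        refine ⟨g, step g (hmem _ ?_), hg⟩
        rw [map_mul, map_mul, map_inv, hg, hzι, ← map_inv, ← map_mul, ← map_mul,
          inv_eq_of_mul_eq_one_right hL, e]
        exact hu a c 1
      refine Iso.top_of (fun a c b => hu a c b) (fun s => hlow _ (Iso.lower_facts s).2.2.1 _ _ (Iso.lower_facts s).1)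
        fun s => hlow _ (Iso.lower_facts s).2.2.2.1 _ _ (Iso.lower_facts s).2.1
    intro g
    obtain ⟨A, hA⟩ := hμs (ι g)
    refine hmem g ?_
    rw [← hA]
    have : A ∈ (Fx.map ι).comap μ := hH ▸ Subgroup.mem_top A
    exact this
  -- the lift
  let L : Subgroup G := Kg t w ⊓ Subgroup.centralizer ({r} : Set G)
  let ιL : L →* Matrix.ProjectiveSpecialLinearGroup (Fin 3) F := ι.comp (Subgroup.inclusion inf_le_left)
  have rW : ∀ v, InW t w v → r * v = v * r → v = 1 := by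
    intro v hv e
    rcases hv with rfl | rfl | rfl | rfl
    · rfl
    · exact absurd e S.r_t
    · rw [conj_fix_iff.mpr e] at hr2
      exact absurd (right_eq_mul.mp hr2) ht1
    · exfalso
      have e' : r * (t * w) * r⁻¹ = t := by
        rw [show r * (t * w) * r⁻¹ = r * t * r⁻¹ * (r * w * r⁻¹) by group, S.hw, hr2, ← mul_assoc, ← htw, mul_assoc,
          hww, mul_one]
      rw [conj_fix_iff.mpr e] at e'
      exact hw1 (mul_eq_left.mp e')
  have hinjL : Function.Injective ιL := by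
    refine (injective_iff_map_eq_one _).mpr fun g hg => Subtype.ext ?_
    exact rW _ ((hker _).mp hg) (mem_cent.mp g.2.2).symm
  have hsurjL : Function.Surjective ιL := by
    intro y
    obtain ⟨g, rfl⟩ := hι y
    obtain ⟨v, hv⟩ : ∃ v : Kg t w, v = g⁻¹ * α g := ⟨_, rfl⟩
    have hvW : InW t w (v : G) := by
      rw [← hker, hv, map_mul, map_inv]
      exact inv_mul_eq_one.mpr (hall g).symm
    -- `u` with `u * r u r⁻¹ = v`
    obtain ⟨u, huW, hu⟩ : ∃ u, InW t w u ∧ v.1 * (r * u * r⁻¹) = u := by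
      have hrtw : r * (t * w) * r⁻¹ = t := by
        rw [show r * (t * w) * r⁻¹ = r * t * r⁻¹ * (r * w * r⁻¹) by group, S.hw, hr2, ← mul_assoc, ← htw, mul_assoc,
          hww, mul_one]
      rcases hvW with e | e | e | e <;> rw [e]
      · exact ⟨1, Or.inl rfl, by group⟩
      · exact ⟨w, Or.inr (Or.inr (Or.inl rfl)), by rw [hr2, ← mul_assoc, htt, one_mul]⟩
      · exact ⟨t * w, Or.inr (Or.inr (Or.inr rfl)), by rw [hrtw, htw]⟩
      · exact ⟨t, Or.inr (Or.inl rfl), by rw [S.hw, mul_assoc, hww, mul_one]⟩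
    have huK : u ∈ Kg t w := B.cfg.Sg_le (B.cfg.InW_mem huW)
    have hcomm : (g : G) * u ∈ L := by
      refine ⟨mul_mem g.2 huK, mem_cent.mpr (conj_fix_iff.mp ?_).symm⟩
      have hgv : r * (g : G) * r⁻¹ = g * v := by
        rw [show (v : G) = (g : G)⁻¹ * (r * g * r⁻¹) from congrArg Subtype.val hv]; group
      calc r * ((g : G) * u) * r⁻¹ = r * g * r⁻¹ * (r * u * r⁻¹) := by group
        _ = g * ((v : G) * (r * u * r⁻¹)) := by rw [hgv, mul_assoc]
        _ = g * u := by rw [hu]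
    refine ⟨⟨_, hcomm⟩, ?_⟩
    show ι (g * ⟨u, huK⟩) = ι g
    rw [map_mul, (hker ⟨u, huK⟩).mpr huW, mul_one]
  let Ψ : S3 →* G := L.subtype.comp ((MulEquiv.ofBijective ιL ⟨hinjL, hsurjL⟩).symm.toMonoidHom.comp μ)
  have spec : ∀ (g : Kg t w) (A : S3), r * (g : G) = g * r → ι g = μ A → Ψ A = g := by
    intro g A hgr hgA
    have hgL : (g : G) ∈ L := ⟨g.2, mem_cent.mpr hgr.symm⟩
    have : (MulEquiv.ofBijective ιL ⟨hinjL, hsurjL⟩).symm (μ A) = ⟨g, hgL⟩ := by
      rw [MulEquiv.symm_apply_eq]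
      exact hgA.symm
    exact congrArg Subtype.val this
  have vz : Ψ (mu 0 0 1) = z := spec zk _ hrz hzι
  have vx : Ψ (mu 0 0 .w) = x := spec xk _ hrx hxι
  have cen : ∀ s : K, Good z x t r Q π (Ψ (mu 0 0 s)) := by
    have h0 : mu (0 : K) 0 0 = 1 := by decide +kernel
    have h1 : mu (0 : K) 0 .v = mu 0 0 .w * mu 0 0 1 := by decide +kernel
    intro s
    cases s
    · show Good z x t r Q π (Ψ (mu 0 0 0))
      rw [h0, map_one]
      exact ⟨one_mem _, by rw [S.st.π_one, bf_zero_right], by simp, by simp⟩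
    · show Good z x t r Q π (Ψ (mu 0 0 1))
      rw [vz]; exact S.good_z
    · rw [vx]; exact S.good_x
    · rw [h1, map_mul, vx, vz]; exact S.good_mul S.good_x S.good_z
  have φsurj : ∀ y : F, ∃ s : K, φ s = y := fun y =>
    ((Nat.bijective_iff_injective_and_card φ).mpr ⟨φ.injective, by
      rw [CfsgLib.G24.K.natCard_eq, Nat.card_eq_fintype_card, h4]⟩).2 y
  refine ⟨Ψ, vz, vx, fun A => ?_, fun g hg hgr => ?_, fun g hg => ?_, fun A hA => ?_, fun A hA => ?_, fun s => ?_, fun s => ?_⟩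
  · have h := ((MulEquiv.ofBijective ιL ⟨hinjL, hsurjL⟩).symm (μ A)).2
    exact ⟨h.1, (mem_cent.mp h.2).symm⟩
  · obtain ⟨A, hA⟩ := hμs (ι ⟨g, hg⟩)
    exact ⟨A, spec ⟨g, hg⟩ A hgr hA.symm⟩
  · obtain ⟨A, hA⟩ := hμs (ι ⟨g, hg⟩)
    obtain ⟨hK, -⟩ := ((MulEquiv.ofBijective ιL ⟨hinjL, hsurjL⟩).symm (μ A)).2
    have e : ι ⟨Ψ A, hK⟩ = μ A := (MulEquiv.ofBijective ιL ⟨hinjL, hsurjL⟩).apply_symm_apply (μ A)
    refine ⟨A, (Ψ A)⁻¹ * g, ?_, (mul_inv_cancel_left _ _).symm⟩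
    exact (hker (⟨Ψ A, hK⟩⁻¹ * ⟨g, hg⟩ : Kg t w)).mp (by rw [map_mul, map_inv, e, hA, inv_mul_cancel])
  · show L.subtype ((MulEquiv.ofBijective ιL ⟨hinjL, hsurjL⟩).symm (μ A)) = 1
    rw [show μ A = 1 from Iso.toPSL_SC φ _ _ h4 hA, map_one, map_one]
  · refine Iso.center_of_toPSL h4 (φ := φ) (p := Units.mk0 pa hg1) (q := Units.mk0 pc hg2) ?_
    have : (MulEquiv.ofBijective ιL ⟨hinjL, hsurjL⟩).symm (μ A) = 1 := Subtype.ext hA
    exact (MulEquiv.map_eq_one_iff _).mp this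
  · obtain ⟨s0, hs0⟩ := φsurj (d1 / b0)
    have e : mu 1 0 s = mu 1 0 s0 * mu (0 : K) 0 (s + s0) :=
      (show ∀ s s0 : K, mu 1 0 s = mu 1 0 s0 * mu (0 : K) 0 (s + s0) by decide +kernel) s s0
    rw [e, map_mul, spec g1 (mu 1 0 s0) G1.2.2.2 (by rw [μmu, hI1, map_one, map_zero, mul_one, mul_zero, hs0,
      mul_div_cancel₀ _ hb00])]
    exact S.good_mul G1 (cen _)
  · obtain ⟨s0, hs0⟩ := φsurj (d2 / b0)
    have e : mu 0 1 s = mu 0 1 s0 * mu (0 : K) 0 (s + s0) :=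
      (show ∀ s s0 : K, mu 0 1 s = mu 0 1 s0 * mu (0 : K) 0 (s + s0) by decide +kernel) s s0
    rw [e, map_mul, spec g2 (mu 0 1 s0) G2.2.2.2 (by rw [μmu, hI2, map_one, map_zero, mul_one, mul_zero, hs0,
      mul_div_cancel₀ _ hb00])]
    exact S.good_mul G2 (cen _)

end Setting

end CfsgLib.SuzType
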