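import Cfsg.Agent.Lib.G24.Field
import Cfsg.Agent.Lib.L34Cover.Planes
import Cfsg.Agent.Lib.StSL.Presentation

/-!
A concrete `SL₃` over the field with four elements, with the five involutions of the presentation of Suz.
-/

set_option autoImplicit false
set_option maxRecDepth 100000
set_option linter.unusedSectionVars false
set_option linter.constructorNameAsVariable false

namespace CfsgLib.SuzType.Iso

open Matrix
open CfsgLib.G24 (K)

/-- The model group. -/
abbrev S3 := Matrix.SpecialLinearGroup (Fin 3) K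

/-- Upper unitriangular elements. -/
def mu (a c b : K) : S3 := ⟨!![1, a, b; 0, 1, c; 0, 0, 1], by simp [det_fin_three]⟩

/-- Lower root elements. -/
def l21 (t : K) : S3 := ⟨!![1, 0, 0; t, 1, 0; 0, 0, 1], by simp [det_fin_three]⟩

/-- Lower root elements. -/
def l32 (t : K) : S3 := ⟨!![1, 0, 0; 0, 1, 0; 0, t, 1], by simp [det_fin_three]⟩

/-- Lower root elements. -/
def l31 (t : K) : S3 := ⟨!![1, 0, 0; 0, 1, 0; t, 0, 1], by simp [det_fin_three]⟩

/-- The involutions. -/
def mA : S3 := mu 0 0 1
/-- The involutions. -/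
def mB : S3 := l31 .w
/-- The involutions. -/
def mC : S3 := mu 0 0 .v
/-- The involutions. -/
def mF : S3 := mu 1 0 .v
/-- The involutions. -/
def mG : S3 := mu 0 1 .v

/-- The product of a word in the five involutions. -/
def mw (L : List S3) : S3 := L.prod

/-- Scalar matrices. -/
def SC (A : S3) : Prop := ∃ k : K, A.1 = k • (1 : Matrix (Fin 3) (Fin 3) K)

instance (A : S3) : Decidable (SC A) := inferInstanceAs (Decidable (∃ k : K, A.1 = k • (1 : Matrix (Fin 3) (Fin 3) K)))

theorem SC.central {A : S3} (h : SC A) : A ∈ Subgroup.center S3 := by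
  obtain ⟨k, hk⟩ := h
  refine Subgroup.mem_center_iff.mpr fun g => Subtype.ext ?_
  show g.1 * A.1 = A.1 * g.1
  rw [hk]
  simp

theorem mu_mul : ∀ a c b a' c' b' : K, mu a c b * mu a' c' b' = mu (a + a') (c + c') (b + b' + a * c') := by
  intro a c b a' c' b'
  refine Subtype.ext ?_
  show (mu a c b).1 * (mu a' c' b').1 = _
  ext i j
  fin_cases i <;> fin_cases j <;> simp [mu, Matrix.mul_apply, Fin.sum_univ_three] <;> ring

theorem mu_facts : mA ≠ 1 ∧ SC (mA * mA) ∧ SC (mB * mB) ∧ SC (mC * mC) ∧ SC (mF * mF) ∧ SC (mG * mG) := by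
  decide +kernel

theorem rel_ab : SC ((mA * mB) ^ 5) ∧ ¬ SC (mA * mB) := by decide +kernel
theorem rel_bc : SC ((mB * mC) ^ 3) := by decide +kernel
theorem rel_bf : SC ((mB * mF) ^ 3) := by decide +kernel
theorem rel_bg : SC ((mG * mB) ^ 3) := by decide +kernel
theorem rel_fg : SC ((mF * mG) ^ 4) ∧ SC (mA * ((mF * mG) ^ 2)⁻¹) := by decide +kernel
theorem rel_comm : SC ((mA * mC) ^ 2) ∧ SC ((mA * mF) ^ 2) ∧ SC ((mA * mG) ^ 2) ∧ SC ((mC * mF) ^ 2) ∧
    SC ((mC * mG) ^ 2) := by decide +kernel
theorem rel_abcf : SC ((mA * mB * mC * mF) ^ 5) := by decide +kernel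
theorem rel_bfg : SC ((mB * mF * mG) ^ 5) := by decide +kernel

/-- The words which give `mu 0 0 w` in the other three planes. -/
def planeWord (i j : K) : List (Fin 4) :=
  if i = 0 then (if j = 0 then [0, 1, 0, 1, 2, 3, 1, 0, 1, 2, 3, 1, 3, 2, 1, 3]
      else [1, 2, 1, 0, 1, 2, 1, 3, 1, 2, 1, 0, 1, 2, 1, 3])
    else [1, 2, 3, 1, 3, 2, 1, 0, 1, 3, 1, 2, 1, 3, 1, 3]

/-- The letters of the words. -/
def planeGen (i j : K) : Fin 4 → S3 := ![mA, mB, mu 1 0 (i * .w), mu 0 1 (j * .w)]

theorem plane_gen : ∀ i j : Fin 2, ¬ (i = 1 ∧ j = 1) →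
    let i' : K := if i = 0 then 0 else 1
    let j' : K := if j = 0 then 0 else 1
    SC (((planeWord i' j').map (planeGen i' j')).prod * mu 0 0 .w) := by decide +kernel

theorem lower_facts : ∀ t : K, l21 t * mu 0 0 1 * l21 t = mu 0 t 1 ∧ l32 t * mu 0 0 1 * l32 t = mu t 0 1 ∧
    l21 t * l21 t = 1 ∧ l32 t * l32 t = 1 ∧ l31 t = l32 t * l21 1 * l32 t * l21 1 := by decide +kernel

theorem top_of {H : Subgroup S3} (hu : ∀ a c b, mu a c b ∈ H) (h1 : ∀ t, l21 t ∈ H) (h2 : ∀ t, l32 t ∈ H) :
    H = ⊤ := by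
  rw [eq_top_iff, ← CfsgLib.StSL.closure_transvection_eq_top (K := K) (n := 3) (by norm_num), Subgroup.closure_le]
  rintro _ ⟨i, j, hij, t, rfl⟩
  have : SpecialLinearGroup.transvection hij t = mu t 0 0 ∨ SpecialLinearGroup.transvection hij t = mu 0 t 0 ∨
      SpecialLinearGroup.transvection hij t = mu 0 0 t ∨ SpecialLinearGroup.transvection hij t = l21 t ∨
      SpecialLinearGroup.transvection hij t = l32 t ∨ SpecialLinearGroup.transvection hij t = l31 t := by
    clear hu h1 h2 H; revert i j t; decide +kernel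
  have h3 : l31 t ∈ H := by
    rw [(lower_facts t).2.2.2.2]
    exact mul_mem (mul_mem (mul_mem (h2 _) (h1 _)) (h2 _)) (h1 _)
  rcases this with e | e | e | e | e | e <;> rw [e]
  exacts [hu _ _ _, hu _ _ _, hu _ _ _, h1 t, h2 t, h3]

/-! The map to `PSL₃` of an arbitrary field with four elements, adapted to two nonzero entries. -/

variable {F : Type*} [Field F]

/-- The values of the homomorphism. -/
def fieldFun (β : F) : K → F
  | .o => 0
  | .i => 1
  | .w => β
  | .v => β + 1

/-- A homomorphism from the model field. -/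
def fieldHom (β : F) (h : β ^ 2 + β + 1 = 0) (h2 : (2 : F) = 0) : K →+* F where
  toFun := fieldFun β
  map_one' := rfl
  map_zero' := rfl
  map_add' x y := by
    show fieldFun β (K.addK x y) = fieldFun β x + fieldFun β y
    cases x <;> cases y <;> simp only [K.addK, fieldFun] <;>
      first
      | ring1
      | linear_combination -h2
      | linear_combination -β * h2
      | linear_combination -(β + 1) * h2
  map_mul' x y := by
    show fieldFun β (K.mulK x y) = fieldFun β x * fieldFun β y
    cases x <;> cases y <;> simp only [K.mulK, fieldFun] <;>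
      first
      | ring1
      | linear_combination -h + (β + 1) * h2
      | linear_combination -h + h2
      | linear_combination -h + β * h2
      | linear_combination h - h2
      | linear_combination -h
      | linear_combination h

theorem fieldHom_values (β : F) (h : β ^ 2 + β + 1 = 0) (h2 : (2 : F) = 0) :
    fieldHom β h h2 .w = β ∧ fieldHom β h h2 .v = β + 1 := ⟨rfl, rfl⟩

end CfsgLib.SuzType.Iso
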