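import Cfsg.Agent.Lib.SuzType.Iso.Lift

/-!
Groups of Suzuki sporadic type: the involution inverting the turning element fixes the two sides of the model.
-/

set_option autoImplicit false
set_option linter.unusedSectionVars false
set_option linter.unusedVariables false
set_option maxRecDepth 100000
set_option linter.constructorNameAsVariable false

universe u

namespace CfsgLib.SuzType

open QuadraticMap
open CfsgLargeExtra
open CfsgLib.HallJankoType (mem_cent conj_fix_iff)
open CfsgLib.SuzType.Iso (S3 SC mu mA mB mC mF mG)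
open CfsgLib.G24 (K)

theorem span_perp : ∀ i j k : F2, bf (i • e1 + j • f1 + k • e0) d0 = 0 ∧ bf (i • e1 + j • f1 + k • e0) d1 = 0 ∧
    bf e0 (i • e1 + j • f1 + k • e0) = 0 := by decide +kernel

theorem perp_perp : ∀ v : V, (∀ p : V, bf e0 p = 0 → bf v p = 0) → v = 0 ∨ v = e0 := by decide +kernel

variable {G : Type u} [Group G] [Finite G]

/-- The involution inverting the turning element, in the centraliser of `⟨a, b⟩`. -/
structure Turned (z t r d b : G) : Prop where
  dd : d * d = 1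
  dr : d * r * d = r⁻¹
  dt : (d * t) ^ 3 = 1
  dz : d * z = z * d
  db : d * b = b * d

theorem Turned.braid {z t r d b : G} (h : Turned z t r d b) (htt : t * t = 1) :
    t * (d * t * d) * t = d ∧ d * t * d = t * d * t := by
  have e : d * t * d = t * d * t := by
    have h3 : (d * t * d) * (t * d * t) = 1 := by
      have := h.dt
      rw [pow_succ, pow_two] at this
      simpa [mul_assoc] using this
    rw [eq_inv_of_mul_eq_one_left h3]
    simp only [mul_inv_rev, inv_eq_of_mul_eq_one_right htt, inv_eq_of_mul_eq_one_right h.dd, mul_assoc]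
  refine ⟨?_, e⟩
  rw [e, show t * (t * d * t) * t = t * t * d * (t * t) by simp only [mul_assoc], htt, one_mul, mul_one]

theorem Turned.conj_r {z t r d b : G} (h : Turned z t r d b) : d * r = r⁻¹ * d := by
  calc d * r = d * r * (d * d) := by rw [h.dd, mul_one]
    _ = r⁻¹ * d := by rw [← mul_assoc, h.dr]

namespace Setting

variable {z x t w r : G} {Q : Subgroup G} {π : G → V} {M : G → O6} (S : Setting z x t w r Q π M)
include S

/-- An element of `Q` over the span of the first pair and `e0` commutes with `t`. -/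
theorem commute_t {q : G} (hq : q ∈ Q) {i j k : F2} (he : π q = i • e1 + j • f1 + k • e0) : q * t = t * q := by
  obtain ⟨s, a, b, Q', π', M', F, hr⟩ := S.frame
  obtain ⟨ha, hb, h0⟩ := span_perp i j k
  rw [← he] at ha hb h0
  have hqx : q * x = x * q := (F.pr.comm_x hq).mpr (by rw [F.px, bf_comm, h0])
  have hco : F.Co q (π q) 0 := ⟨q, 1, hq, hqx, one_mem _, by simp, (mul_one q).symm, h0, bf_zero_right _,
    Or.inl rfl, Or.inl (by show π (s * 1 * s⁻¹ * 1⁻¹) = 0; simp [F.pr.h.π_one])⟩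
  exact (F.co_commute hco F.co_t).mpr ⟨by rw [bf_zero_left, ha, hb]; simp,
    by rw [bf_zero_left, bf_zero_left, hb]; simp⟩

theorem no_dx {d b : G} (h : Turned z t r d b) (hdx : d * x = x * d) : False := by
  obtain ⟨-, -, -, -, -, -, htt, ht1, -, -, -, -, htz, htx, -⟩ := S.base.cfg.rels
  obtain ⟨hr3, -, -, -⟩ := S.rot
  have fd := S.M_e0 h.dz hdx
  have ft := S.M_e0 htz htx
  have hm : t * (d * t * d) = (t * d) ^ 2 := by simp only [pow_two, mul_assoc]
  have hz1 : Commute (t * d) z := Commute.mul_left htz h.dz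
  have hz2 : Commute (d * t * d) z := Commute.mul_left (Commute.mul_left h.dz htz) h.dz
  have hmz : t * (d * t * d) * z = z * (t * (d * t * d)) := Commute.mul_left htz hz2
  obtain ⟨C, hC⟩ : ∃ C, C = M (t * (d * t * d)) := ⟨_, rfl⟩
  have hC' : ∀ v, C.1 v = (M t).1 ((M d).1 ((M t).1 ((M d).1 v))) := by
    intro v
    rw [hC, S.st.M_mul _ _ htz hz2, S.st.M_mul _ _ (Commute.mul_left h.dz htz) h.dz, S.st.M_mul _ _ h.dz htz]
    rfl
  have hdd : ∀ v, (M d).1 ((M d).1 v) = v := by
    intro v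
    show (M d * M d).1 v = v
    rw [← S.st.M_mul _ _ h.dz h.dz, h.dd, S.st.M_one]
    rfl
  have fC : C.1 e0 = e0 := by rw [hC', fd, ft, fd, ft]
  have htriv : ∀ v, bf e0 v = 0 → C.1 v = v ∨ C.1 v = v + e0 := by
    intro v hv
    have hv' : bf e0 ((M d).1 v) = 0 := by rw [← fd, bf_map, hv]
    rw [hC']
    rcases S.t_triv hv' with e | e <;> rw [e]
    · rw [hdd]; exact S.t_triv hv
    · rw [map_add, hdd, fd, map_add, ft]
      rcases S.t_triv hv with e' | e' <;> rw [e']
      · exact Or.inr rfl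
      · exact Or.inl (by rw [add_assoc, V_add_self, add_zero])
  have hC3 : ∀ v, C.1 (C.1 (C.1 v)) = v := by
    intro v
    show (C * C * C).1 v = v
    have h6 : t * (d * t * d) * (t * (d * t * d)) * (t * (d * t * d)) = 1 := by
      have h3 : (t * d) ^ 3 = 1 := by
        rw [show t * d = d * (d * t) * d⁻¹ by rw [← mul_assoc, h.dd, one_mul, inv_eq_of_mul_eq_one_right h.dd],
          conj_pow, h.dt, mul_one, mul_inv_cancel]
      rw [hm, ← pow_add, ← pow_add, show 2 + 2 + 2 = 3 * 2 from rfl, pow_mul, h3, one_pow]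
    rw [hC, ← S.st.M_mul _ _ hmz hmz, ← S.st.M_mul _ _ (Commute.mul_left hmz hmz) hmz, h6, S.st.M_one]
    rfl
  have hfix : ∀ v, bf e0 v = 0 → C.1 v = v := by
    intro v hv
    have h2 : C.1 (C.1 v) = v := by
      rcases htriv v hv with e | e
      · rw [e, e]
      · rw [e, map_add, fC, e, add_assoc, V_add_self, add_zero]
    have := hC3 v
    rwa [h2] at this
  have hall : ∀ v, C.1 v = v := by
    intro v
    have hp : ∀ p, bf e0 p = 0 → bf (C.1 v + v) p = 0 := fun p hp => by
      rw [bf_add_left]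
      nth_rw 1 [← hfix p hp]
      rw [bf_map]
      exact F2_add_self _
    have h2 : C.1 (C.1 v) = v := by
      rcases perp_perp _ hp with e | e
      · have e' : C.1 v = v := by rw [← add_zero (C.1 v), ← V_add_self v, ← add_assoc, e, zero_add]
        rw [e', e']
      · have e' : C.1 v = e0 + v := by rw [← add_zero (C.1 v), ← V_add_self v, ← add_assoc, e]
        rw [e', map_add, fC, e', ← add_assoc, V_add_self, zero_add]
    have := hC3 v
    rwa [h2] at this
  have hQ : (t * d) ^ 2 ∈ Q := by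
    rw [← hm]
    refine (S.st.M_ker _ hmz).mp ?_
    rw [← hC]
    exact Subtype.ext (LinearEquiv.ext hall)
  have h3 : (t * d) ^ 3 = 1 := by
    rw [show t * d = d * (d * t) * d⁻¹ by rw [← mul_assoc, h.dd, one_mul, inv_eq_of_mul_eq_one_right h.dd],
      conj_pow, h.dt, mul_one, mul_inv_cancel]
  have h4 : ((t * d) ^ 2) ^ 4 = 1 := by
    rcases S.st.es.sq _ hQ with e | e <;>
      rw [show ((t * d) ^ 2) ^ 4 = ((t * d) ^ 2 * (t * d) ^ 2) * ((t * d) ^ 2 * (t * d) ^ 2) by
        simp only [pow_succ, pow_zero, one_mul, mul_assoc], e]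
    · rw [one_mul]
    · exact S.st.zz
  have h1 : t * d = 1 := by
    have : (t * d) ^ 8 = 1 := by rw [← h4, ← pow_mul]
    rw [show 8 = 3 + 3 + 2 from rfl, pow_add, pow_add, h3, one_mul, one_mul] at this
    have h' := h3
    rw [pow_succ, this, one_mul] at h'
    exact h'
  have hd : d = t := by rw [eq_inv_of_mul_eq_one_right h1, inv_eq_of_mul_eq_one_right htt]
  have := h.dr
  rw [hd] at this
  have e1 : r * t * r⁻¹ = t * r⁻¹ * r⁻¹ := by
    rw [← this]
    simp only [← mul_assoc, htt, one_mul]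
  have e2 : r⁻¹ * r⁻¹ = r := by
    rw [← mul_inv_rev, eq_comm, eq_inv_iff_mul_eq_one, ← hr3]; simp [pow_succ, mul_assoc]
  rw [mul_assoc t, e2, S.hw] at e1
  obtain ⟨-, -, -, -, -, -, -, -, hww, htw, -⟩ := S.base.cfg.rels
  have hr2 : r * r = 1 := by
    have er : r = t * w := by rw [e1, ← mul_assoc, htt, one_mul]
    rw [er, mul_assoc, ← mul_assoc w, ← htw, mul_assoc t w w, hww, mul_one, htt]
  refine S.r_t ?_
  have : r = 1 := by rw [← hr3, pow_succ, pow_two, hr2, one_mul]
  rw [this, one_mul, mul_one]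

/-- An element of a side with perpendicular image commutes with `d`. -/
theorem criterion {d b q : G} (h : Turned z t r d b) (hq : Good z x t r Q π q)
    (h0 : bf e0 ((M d).1 (π q)) = 0) : d * q = q * d := by
  obtain ⟨hqQ, -, hqt, hqr⟩ := hq
  obtain ⟨-, -, -, -, -, -, htt, -⟩ := S.base.cfg.rels
  have hdi : d⁻¹ = d := inv_eq_of_mul_eq_one_right h.dd
  have hq' : d * q * d ∈ Q := by
    have := S.st.nor_mem h.dz hqQ
    rwa [hdi] at this
  have hπ : π (d * q * d) = (M d).1 (π q) := by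
    rw [← S.st.M_act d h.dz q hqQ, hdi]
  have hri : r⁻¹ * q = q * r⁻¹ := (show Commute r q from hqr).inv_left
  have e1 : r * d = d * r⁻¹ := by
    rw [← h.dr, ← mul_assoc, ← mul_assoc, h.dd, one_mul]
  have hr' : r * (d * q * d) = d * q * d * r := by
    calc r * (d * q * d) = r * d * q * d := by simp only [mul_assoc]
      _ = d * (r⁻¹ * q) * d := by rw [e1]; simp only [mul_assoc]
      _ = d * q * (r⁻¹ * d) := by rw [hri]; simp only [mul_assoc]
      _ = d * q * d * r := by rw [← h.conj_r]; simp only [mul_assoc]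
  have hfx := S.Mr_fix hq' hr'
  rw [hπ] at hfx
  obtain ⟨i, j, k, hijk⟩ := S.fixed_perp hfx h0
  have ht' : Commute (d * q * d) t := S.commute_t hq' (hπ.trans hijk)
  have hc : Commute q (d * t * d) := by
    show q * (d * t * d) = d * t * d * q
    calc q * (d * t * d) = d * ((d * q * d) * t) * d := by
          simp only [mul_assoc]; rw [← mul_assoc d d, h.dd, one_mul]
      _ = d * t * d * q := by
          rw [ht'.eq]; simp only [mul_assoc]; rw [h.dd, mul_one]
  have hd := (h.braid htt).1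
  calc d * q = t * (d * t * d) * t * q := by rw [hd]
    _ = q * (t * (d * t * d) * t) := ((Commute.mul_right (Commute.mul_right hqt hc) hqt).eq).symm
    _ = q * d := by rw [hd]

/-- The two sides of the model commute with `d`. -/
theorem d_sides {Ψ : S3 →* G} (hΨ : Model z x t w r Q π Ψ) {d : G} (h : Turned z t r d (Ψ mB)) :
    d * Ψ mF = Ψ mF * d ∧ d * Ψ mG = Ψ mG * d ∧ bf e0 ((M d).1 e0) = 1 := by
  have hdz : Commute d (Ψ mA) := by
    show d * Ψ mA = Ψ mA * d
    rw [show Ψ mA = z from hΨ.val_a]; exact h.dz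
  have hx : Good z x t r Q π x := S.good_x
  have he : bf e0 ((M d).1 e0) = 1 := bf_eq_one fun h0 => by
    refine S.no_dx h (S.criterion h hx ?_)
    rw [S.px]; exact h0
  have side : ∀ p q : G, Good z x t r Q π p → Good z x t r Q π q → q = p * x → Commute d p ∨ Commute d q := by
    intro p q hp hq e
    rcases F2_cases (bf e0 ((M d).1 (π p))) with e0' | e1'
    · exact Or.inl (S.criterion h hp e0')
    · refine Or.inr (S.criterion h hq ?_)
      rw [e, S.st.π_mul p hp.1 x S.hx, S.px, map_add, bf_add_right, e1', he]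
      exact F2_add_self _
  have hmu : mu (1 : K) 0 .w = mu 1 0 0 * mu 0 0 .w ∧ mu (0 : K) 1 .w = mu 0 1 0 * mu 0 0 .w ∧
      mu (1 : K) 0 .v = mu 1 0 .w * mu 0 0 1 ∧ mu (0 : K) 1 .v = mu 0 1 .w * mu 0 0 1 ∧
      (0 : K) * .w = 0 ∧ (1 : K) * .w = .w := by decide +kernel
  obtain ⟨m1, m2, m3, m4, m5, m6⟩ := hmu
  have pick : ∀ s : K → G, (∀ v, Good z x t r Q π (s v)) → s .w = s 0 * x →
      ∃ i : Fin 2, Commute d (s ((if i = 0 then (0 : K) else 1) * .w)) := by
    intro s hs e
    rcases side (s 0) (s .w) (hs _) (hs _) e with e' | e'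
    · exact ⟨0, by rw [if_pos rfl, m5]; exact e'⟩
    · exact ⟨1, by rw [if_neg (by decide), m6]; exact e'⟩
  obtain ⟨i, hi⟩ := pick (fun v => Ψ (mu 1 0 v)) hΨ.side1 (by show Ψ _ = _; rw [m1, map_mul, hΨ.val_x])
  obtain ⟨j, hj⟩ := pick (fun v => Ψ (mu 0 1 v)) hΨ.side2 (by show Ψ _ = _; rw [m2, map_mul, hΨ.val_x])
  by_cases hij : i = 1 ∧ j = 1
  · obtain ⟨rfl, rfl⟩ := hij
    rw [if_neg (by decide), m6] at hi hj
    refine ⟨?_, ?_, he⟩
    · show Commute d (Ψ mF)
      rw [show mF = mu (1 : K) 0 .v from rfl, m3, map_mul]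
      exact hi.mul_right hdz
    · show Commute d (Ψ mG)
      rw [show mG = mu (0 : K) 1 .v from rfl, m4, map_mul]
      exact hj.mul_right hdz
  exfalso
  have hp := hΨ.scalar _ (Iso.plane_gen i j hij)
  rw [map_mul, hΨ.val_x] at hp
  refine S.no_dx h ?_
  rw [eq_inv_of_mul_eq_one_right hp]
  refine Commute.inv_right ?_
  rw [map_list_prod]
  refine Commute.list_prod_right _ _ fun g hg => ?_
  simp only [List.map_map, List.mem_map, Function.comp_apply] at hg
  obtain ⟨l, -, rfl⟩ := hg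
  fin_cases l
  exacts [hdz, h.db, hi, hj]

/-- The fourth power of `cd`. -/
theorem cd_pow {Ψ : S3 →* G} (hΨ : Model z x t w r Q π Ψ) {d : G} (h : Turned z t r d (Ψ mB)) :
    Ψ mC ∈ Q ∧ (Ψ mC * d) ^ 4 = z ∧ (Ψ mC * d) ^ 8 = 1 := by
  have m1 : mu (0 : K) 0 .v = mu 0 0 .w * mu 0 0 1 := by decide +kernel
  have hc : Ψ mC = x * z := by rw [show mC = mu (0 : K) 0 .v from rfl, m1, map_mul, hΨ.val_x, hΨ.val_a]
  have hcQ : Ψ mC ∈ Q := by rw [hc]; exact mul_mem S.hx S.st.es.mem
  have hcc : Ψ mC * Ψ mC = 1 := by rw [← map_mul]; exact hΨ.scalar _ Iso.mu_facts.2.2.2.1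
  have hπc : π (Ψ mC) = e0 := by rw [hc, S.st.π_mul_z S.hx, S.px]
  obtain ⟨c, hceq⟩ : ∃ c, c = Ψ mC := ⟨_, rfl⟩
  rw [← hceq] at hcQ hcc hπc ⊢
  have hdi : d⁻¹ = d := inv_eq_of_mul_eq_one_right h.dd
  have hcd : d * c * d ∈ Q := by
    have := S.st.nor_mem h.dz hcQ
    rwa [hdi] at this
  have hπ : π (d * c * d) = (M d).1 e0 := by rw [← hπc, ← S.st.M_act d h.dz c hcQ, hdi]
  have h1 : bf (π c) (π (d * c * d)) = 1 := by rw [hπc, hπ]; exact (S.d_sides hΨ h).2.2
  have e := S.st.conj_Q hcQ hcd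
  rw [h1, if_neg one_ne_zero, inv_eq_of_mul_eq_one_right hcc] at e
  have h4 : (c * d) ^ 4 = z := by
    calc (c * d) ^ 4 = c * (d * c * d) * c * (d * c * d) := by simp only [pow_succ, pow_zero, one_mul, mul_assoc]
      _ = d * c * d * z * (d * c * d) := by rw [e]
      _ = z * (d * c * d * (d * c * d)) := by rw [S.st.es.comm _ hcd]; simp only [mul_assoc]
      _ = z * (d * c * (d * d) * c * d) := by simp only [mul_assoc]
      _ = z := by rw [h.dd, mul_one, mul_assoc d c c, hcc, mul_one, h.dd, mul_one]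
  exact ⟨hcQ, h4, by rw [show 8 = 4 * 2 from rfl, pow_mul, h4, pow_two, S.st.zz]⟩

end Setting

end CfsgLib.SuzType
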