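import Cfsg.Agent.Lib.CosetEnum.Sub

/-!
Certified coset enumerations read in a finite group of any universe.
-/

set_option autoImplicit false

universe u

namespace CfsgLib.CosetEnum

variable {G : Type u} [Group G] [Finite G]

theorem exists_perm_embedding :
    ∃ (n : ℕ) (ι : G →* Equiv.Perm (Fin n)), Function.Injective ι :=
  ⟨Nat.card G, (Finite.equivFin G).permCongrHom.toMonoidHom.comp (MulAction.toPermHom G G),
    (Finite.equivFin G).permCongrHom.injective.comp MulAction.toPerm_injective⟩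

theorem Sheet.word_mem (C : Sheet) (τ : ℕ → G) (hτ : ∀ x, τ x * τ x = 1) (hτk : τ C.D.k = 1)
    (hrel : ∀ w ∈ C.rels, (w.map τ).prod = 1) (w : List ℕ)
    (hw : (w.all fun x => Nat.blt x C.D.k) = true) (h : runT C.T C.D.k w 0 = 0) :
    (w.map τ).prod ∈ Subgroup.closure {g | ∃ v ∈ C.hw, (v.map τ).prod = g} := by
  obtain ⟨n, ι, hι⟩ := exists_perm_embedding (G := G)
  have hm : ∀ v : List ℕ, ι (v.map τ).prod = (v.map (ι ∘ τ)).prod := fun v => by rw [map_list_prod, List.map_map]
  have h1 := C.mem_of_run (ι ∘ τ) (fun x => by rw [Function.comp_apply, ← map_mul, hτ, map_one])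
    (by rw [Function.comp_apply, hτk, map_one]) (fun v hv => by rw [← hm, hrel v hv, map_one]) w hw h
  have e : wordsSub (ι ∘ τ) C.hw = (Subgroup.closure {g | ∃ v ∈ C.hw, (v.map τ).prod = g}).map ι := by
    rw [MonoidHom.map_closure]
    show Subgroup.closure _ = Subgroup.closure _
    congr 1
    ext g
    constructor
    · rintro ⟨v, hv, rfl⟩; exact ⟨_, ⟨v, hv, rfl⟩, hm v⟩
    · rintro ⟨_, ⟨v, hv, rfl⟩, rfl⟩; exact ⟨v, hv, (hm v).symm⟩
  rw [e, ← hm] at h1
  obtain ⟨g, hg, hge⟩ := h1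
  rwa [← hι hge]

/-- A homomorphism from a numbered presentation into a finite group of any universe. -/
theorem Pres.exists_lift (P : Pres) (τ : ℕ → G) (hτ : ∀ x, τ x * τ x = 1)
    (h : ∀ w ∈ P.rels, (w.map τ).prod = 1) : ∃ φ : P.Grp →* G, ∀ a, φ (PresentedGroup.of a) = τ (P.idx a) := by
  obtain ⟨n, ι, hι⟩ := exists_perm_embedding (G := G)
  have hr : ∀ r ∈ P.relSet, FreeGroup.lift (τ ∘ P.idx) r = 1 := fun r hr => hι (by
    rw [map_one, ← MonoidHom.comp_apply, show ι.comp (FreeGroup.lift (τ ∘ P.idx)) = FreeGroup.lift ((ι ∘ τ) ∘ P.idx)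
      from FreeGroup.ext_hom _ _ fun a => by simp]
    exact P.lift_rel (fun x => by rw [Function.comp_apply, ← map_mul, hτ, map_one])
      (fun w hw => by rw [← List.map_map, ← map_list_prod, h w hw, map_one]) r hr)
  exact ⟨PresentedGroup.toGroup hr, fun a => PresentedGroup.toGroup.of hr⟩

end CfsgLib.CosetEnum
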