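import Cfsg.Agent.Lib.SuzType.Iso.Five
import Cfsg.Agent.Lib.SuzType.Iso.Turned
import Cfsg.Agent.Lib.SuzType.Iso.Word
import Cfsg.Agent.Lib.CosetEnum.PresSuz
import Cfsg.Agent.Lib.CosetEnum.SuzXA.Main
import Cfsg.Agent.Lib.CosetEnum.SuzXB.Main

/-!
Groups of Suzuki sporadic type: the relators of the presentation of Suz.
-/

set_option autoImplicit false
set_option linter.unusedSectionVars false
set_option linter.unusedVariables false
set_option linter.constructorNameAsVariable false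
set_option maxRecDepth 100000

universe u

namespace CfsgLib.SuzType

open CfsgLargeExtra
open CfsgLib.HallJankoType (mem_cent conj_fix_iff)
open CfsgLib.SuzType.Iso (S3 SC mu mA mB mC mF mG)
open CfsgLib.CosetEnum (coxWord prod_coxWord presSuz runT)

variable {G : Type u} [Group G] [Finite G]

theorem pow_two_of_comm {p q : G} (h : Commute p q) (hp : p * p = 1) (hq : q * q = 1) : (p * q) ^ 2 = 1 := by
  rw [h.mul_pow, pow_two, pow_two, hp, hq, one_mul]

theorem comm_of_pow_two {p q : G} (h : (p * q) ^ 2 = 1) (hp : p * p = 1) (hq : q * q = 1) : Commute p q := by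
  show p * q = q * p
  rw [pow_two] at h
  rw [eq_inv_of_mul_eq_one_left h, mul_inv_rev, inv_eq_of_mul_eq_one_right hp, inv_eq_of_mul_eq_one_right hq]

/-- The seven involutions. -/
def gens (Ψ : S3 →* G) (t d : G) : ℕ → G := fun k => [Ψ mA, Ψ mB, Ψ mC, d, t, Ψ mF, Ψ mG].getD k 1

namespace Setting

variable {z x t w r : G} {Q : Subgroup G} {π : G → V} {M : G → O6} (S : Setting z x t w r Q π M)
include S

/-- The element `(bcdcd)^5` turns `t`. -/
theorem five_word {Ψ : S3 →* G} (hΨ : Model z x t w r Q π Ψ) {d : G} (h : Turned z t r d (Ψ mB))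
    (hgo : orderOf (Ψ mA * Ψ mB) = 5)
    (hW : ∀ u : G, u * (Ψ mA * Ψ mB) = Ψ mA * Ψ mB * u → u * r = r * u →
      ∃ i j : ℤ, u = r ^ i * (Ψ mA * Ψ mB) ^ j) :
    (Ψ mB * Ψ mC * d * Ψ mC * d) ^ 5 = r ∨ (Ψ mB * Ψ mC * d * Ψ mC * d) ^ 5 = r * r := by
  obtain ⟨hr3, -⟩ := S.rot
  obtain ⟨-, -, -, -, -, -, htt, ht1, -⟩ := S.base.cfg.rels
  obtain ⟨a1, saa, sbb, scc, -⟩ := Iso.mu_facts
  obtain ⟨a, ha⟩ : ∃ a, a = Ψ mA := ⟨_, rfl⟩
  obtain ⟨b, hb⟩ : ∃ b, b = Ψ mB := ⟨_, rfl⟩
  obtain ⟨c, hc⟩ : ∃ c, c = Ψ mC := ⟨_, rfl⟩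
  have haz : a = z := ha.trans hΨ.val_a
  have sq : ∀ A, SC (A * A) → Ψ A * Ψ A = 1 := fun A hA => by rw [← map_mul]; exact hΨ.scalar _ hA
  have haa : a * a = 1 := ha ▸ sq _ saa
  have hbb : b * b = 1 := hb ▸ sq _ sbb
  have hcc : c * c = 1 := hc ▸ sq _ scc
  have hab5 : (a * b) ^ 5 = 1 := by rw [ha, hb, ← map_mul, ← map_pow]; exact hΨ.scalar _ Iso.rel_ab.1
  have hac : (a * c) ^ 2 = 1 := by rw [ha, hc, ← map_mul, ← map_pow]; exact hΨ.scalar _ Iso.rel_comm.1
  have hbc : (b * c) ^ 3 = 1 := by rw [hb, hc, ← map_mul, ← map_pow]; exact hΨ.scalar _ Iso.rel_bc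
  have hdb : Commute b d := hb ▸ (h.db).symm
  have hda : Commute a d := by show a * d = d * a; rw [haz]; exact h.dz.symm
  have hte : ∀ A, Commute (Ψ A) t := fun A => (mem_Kg.mp (hΨ.mem A).1).1
  have hat : Commute a t := ha ▸ hte _
  have hbt : Commute b t := hb ▸ hte _
  have hct : Commute c t := hc ▸ hte _
  obtain ⟨hcQ, h4, h8⟩ := S.cd_pow hΨ h
  rw [← hc, ← haz] at h4
  rw [← hc] at h8
  rw [← ha, ← hb] at hgo hW
  rw [← hb, ← hc]
  have hcd4 : a * d * c * d * c * d * c * d * c = 1 := by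
    have hi : (c * d) ^ 4 * (d * c) ^ 4 = 1 := by
      rw [show d * c = (c * d)⁻¹ by
        rw [mul_inv_rev, inv_eq_of_mul_eq_one_right h.dd, inv_eq_of_mul_eq_one_right hcc], inv_pow, mul_inv_cancel]
    rw [h4] at hi
    simpa [pow_succ, mul_assoc] using hi
  have hiA : a⁻¹ = a := inv_eq_of_mul_eq_one_right haa
  have hib : b⁻¹ = b := inv_eq_of_mul_eq_one_right hbb
  have hic : c⁻¹ = c := inv_eq_of_mul_eq_one_right hcc
  have hid : d⁻¹ = d := inv_eq_of_mul_eq_one_right h.dd
  obtain ⟨X, hX⟩ : ∃ X, X = (b * c * d * c * d) ^ 5 := ⟨_, rfl⟩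
  rw [← hX]
  -- commutation with `a` and `b`
  let W5 : List ℕ := [1, 2, 3, 2, 3, 1, 2, 3, 2, 3, 1, 2, 3, 2, 3, 1, 2, 3, 2, 3, 1, 2, 3, 2, 3]
  let τ : ℕ → G := fun k => [a, b, c, d].getD k 1
  have hτ : ∀ k, τ k * τ k = 1 := by
    intro k
    rcases k with _ | _ | _ | _ | k <;> simp [τ, haa, hbb, hcc, h.dd]
  have hrel : ∀ v ∈ CosetEnum.SuzXA.sheet.rels, (v.map τ).prod = 1 := by
    intro v hv
    simp only [CosetEnum.SuzXA.sheet, CosetEnum.SuzXA.rels, List.mem_cons, List.not_mem_nil, or_false] at hv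
    rcases hv with rfl | rfl | rfl | rfl | rfl | rfl | rfl | rfl | rfl | rfl | rfl <;>
      simp only [τ, List.map_cons, List.map_nil, List.prod_cons, List.prod_nil, List.getD_cons_zero,
        List.getD_cons_succ, mul_one]
    · exact haa
    · simpa [pow_succ, mul_assoc] using hab5
    · simpa [pow_succ, mul_assoc] using hac
    · simpa [pow_succ, mul_assoc] using pow_two_of_comm hda haa h.dd
    · exact hbb
    · simpa [pow_succ, mul_assoc] using hbc
    · simpa [pow_succ, mul_assoc] using pow_two_of_comm hdb hbb h.dd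
    · exact hcc
    · simpa [pow_succ, mul_assoc] using h8
    · exact h.dd
    · simpa [mul_assoc] using hcd4
  have hsub : ∀ g : G, g ∈ Subgroup.closure {g | ∃ v ∈ CosetEnum.SuzXA.sheet.hw, (v.map τ).prod = g} →
      g = 1 ∨ g = a := by
    intro g hg
    have : Subgroup.closure {g | ∃ v ∈ CosetEnum.SuzXA.sheet.hw, (v.map τ).prod = g} ≤ Subgroup.zpowers a := by
      rw [Subgroup.closure_le]
      rintro _ ⟨v, hv, rfl⟩
      simp only [CosetEnum.SuzXA.sheet, CosetEnum.SuzXA.hw, List.mem_cons, List.not_mem_nil, or_false] at hv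
      subst hv
      simp [τ]
    obtain ⟨k, rfl⟩ := Subgroup.mem_zpowers_iff.mp (this hg)
    obtain ⟨l, rfl | rfl⟩ := Int.even_or_odd' k
    · left; rw [zpow_mul, zpow_two, haa, one_zpow]
    · right; rw [zpow_add, zpow_mul, zpow_two, haa, one_zpow, zpow_one, one_mul]
  have hpA : (([0] : List ℕ).map τ).prod = a ∧ (([1] : List ℕ).map τ).prod = b := by simp [τ]
  have hconj : ∀ (k : ℕ), k < 4 → ((W5 ++ [k] ++ W5.reverse ++ [k]).map τ).prod = X * τ k * X⁻¹ * τ k := by
    intro k _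
    rw [hX, ← inv_pow]
    simp only [W5, List.map_append, List.prod_append, List.map_cons, List.map_nil, List.prod_cons, List.prod_nil,
      List.reverse_cons, List.reverse_nil, List.nil_append, List.singleton_append, List.cons_append]
    simp [τ, mul_inv_rev, hib, hic, hid, pow_succ, mul_assoc]
  have hXa : Commute X a := by
    have h1 := CosetEnum.Sheet.word_mem CosetEnum.SuzXA.sheet τ hτ rfl hrel (W5 ++ [0] ++ W5.reverse ++ [0])
      (by decide +kernel) (by decide +kernel)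
    rw [hconj 0 (by norm_num)] at h1
    show X * a = a * X
    refine conj_fix_iff.mp ?_
    have hτ0 : τ 0 = a := rfl
    rw [hτ0] at h1
    rcases hsub _ h1 with e | e
    · rw [eq_inv_of_mul_eq_one_left e, hiA]
    · exfalso
      refine a1 ?_
      have e' : X * a * X⁻¹ = 1 := mul_eq_right.mp e
      have ea : a = 1 := by rw [mul_inv_eq_one] at e'; exact mul_eq_left.mp e'
      exfalso
      exact S.base.cfg.rels.2.2.1 (haz ▸ ea)
  have hXb : Commute X b := by
    have h1 := CosetEnum.Sheet.word_mem CosetEnum.SuzXA.sheet τ hτ rfl hrel (W5 ++ [1] ++ W5.reverse ++ [1])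
      (by decide +kernel) (by decide +kernel)
    rw [hconj 1 (by norm_num)] at h1
    show X * b = b * X
    refine conj_fix_iff.mp ?_
    have hτ1 : τ 1 = b := rfl
    rw [hτ1] at h1
    rcases hsub _ h1 with e | e
    · rw [eq_inv_of_mul_eq_one_left e, hib]
    · exfalso
      have e' : X * b * X⁻¹ = a * b := by
        rw [← e]; simp only [mul_assoc, hbb, mul_one]
      have := congrArg orderOf e'
      rw [hgo, show X * b * X⁻¹ = MulAut.conj X b from rfl, MulEquiv.orderOf_eq] at this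
      have h2 : orderOf b ∣ 2 := orderOf_dvd_of_pow_eq_one (by rw [pow_two, hbb])
      rw [this] at h2
      norm_num at h2
  -- the centraliser of the turning element
  have har : ∀ A, Commute r (Ψ A) := fun A => (hΨ.mem A).2
  have hXr : Commute X r := by
    have hcr : Commute c r := hc ▸ (har mC).symm
    have hbr : Commute b r := hb ▸ (har mB).symm
    have hdcd : Commute (d * c * d) r := by
      have hcri : c * r⁻¹ = r⁻¹ * c := hcr.inv_right
      have e1 : r * d = d * r⁻¹ := by rw [← h.dr, ← mul_assoc, ← mul_assoc, h.dd, one_mul]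
      show d * c * d * r = r * (d * c * d)
      calc d * c * d * r = d * (c * r⁻¹) * d := by rw [mul_assoc (d * c) d r, h.conj_r]; simp only [mul_assoc]
        _ = d * r⁻¹ * c * d := by rw [hcri]; simp only [mul_assoc]
        _ = r * (d * c * d) := by rw [← e1]; simp only [mul_assoc]
    rw [hX, show b * c * d * c * d = b * c * (d * c * d) by simp only [mul_assoc]]
    exact (Commute.mul_left (Commute.mul_left hbr hcr) hdcd).pow_left 5
  obtain ⟨i, j, hij⟩ := hW X (hXa.mul_right hXb) hXr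
  have hj : (a * b) ^ j = 1 := by
    have hca : Commute a ((a * b) ^ j) := by
      have e : (a * b) ^ j = (r ^ i)⁻¹ * X := by rw [hij, inv_mul_cancel_left]
      rw [e]
      exact (((ha ▸ (har mA).symm : Commute a r).zpow_right i).inv_right).mul_right hXa.symm
    have hinv : a * (a * b) * a⁻¹ = (a * b)⁻¹ := by
      rw [mul_inv_rev, hib, hiA, ← mul_assoc, haa, one_mul]
    have h2 : (a * b) ^ j = ((a * b) ^ j)⁻¹ := by
      conv_lhs => rw [← conj_fix_iff.mpr hca.eq, ← conj_zpow, hinv, inv_zpow]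
    have h2' : ((a * b) ^ j) ^ 2 = 1 := by rw [pow_two]; nth_rw 2 [h2]; rw [mul_inv_cancel]
    have h5 : ((a * b) ^ j) ^ 5 = 1 := by
      rw [← zpow_natCast, ← zpow_mul, mul_comm, zpow_mul, zpow_natCast, hab5, one_zpow]
    have := pow_gcd_eq_one.mpr ⟨h2', h5⟩
    rwa [show Nat.gcd 2 5 = 1 from rfl, pow_one] at this
  rw [hj, mul_one] at hij
  -- it is not the identity
  have hX1 : X ≠ 1 := by
    intro e1
    let σ : ℕ → G := fun k => [a, b, c, d, t].getD k 1
    have hσ : ∀ k, σ k * σ k = 1 := by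
      intro k
      rcases k with _ | _ | _ | _ | _ | k <;> simp [σ, haa, hbb, hcc, h.dd, htt]
    have hrelB : ∀ v ∈ CosetEnum.SuzXB.sheet.rels, (v.map σ).prod = 1 := by
      intro v hv
      simp only [CosetEnum.SuzXB.sheet, CosetEnum.SuzXB.rels, List.mem_cons, List.not_mem_nil, or_false] at hv
      rcases hv with rfl | rfl | rfl | rfl | rfl | rfl | rfl | rfl | rfl | rfl | rfl | rfl | rfl | rfl | rfl | rfl |
          rfl <;>
        simp only [σ, List.map_cons, List.map_nil, List.prod_cons, List.prod_nil, List.getD_cons_zero,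
          List.getD_cons_succ, mul_one]
      · exact haa
      · simpa [pow_succ, mul_assoc] using hab5
      · simpa [pow_succ, mul_assoc] using hac
      · simpa [pow_succ, mul_assoc] using pow_two_of_comm hda haa h.dd
      · simpa [pow_succ, mul_assoc] using pow_two_of_comm hat haa htt
      · exact hbb
      · simpa [pow_succ, mul_assoc] using hbc
      · simpa [pow_succ, mul_assoc] using pow_two_of_comm hdb hbb h.dd
      · simpa [pow_succ, mul_assoc] using pow_two_of_comm hbt hbb htt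
      · exact hcc
      · simpa [pow_succ, mul_assoc] using h8
      · simpa [pow_succ, mul_assoc] using pow_two_of_comm hct hcc htt
      · exact h.dd
      · simpa [pow_succ, mul_assoc] using h.dt
      · exact htt
      · simpa [mul_assoc] using hcd4
      · rw [hX] at e1; simpa [pow_succ, mul_assoc] using e1
    have h1 := CosetEnum.Sheet.word_mem CosetEnum.SuzXB.sheet σ hσ rfl hrelB [0] (by decide +kernel)
      (by decide +kernel)
    have hz : Subgroup.closure {g | ∃ v ∈ CosetEnum.SuzXB.sheet.hw, (v.map σ).prod = g} = ⊥ := by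
      simp [CosetEnum.SuzXB.sheet, CosetEnum.SuzXB.hw]
    rw [hz, Subgroup.mem_bot] at h1
    exact S.base.cfg.rels.2.2.1 (haz ▸ (by simpa [σ] using h1))
  have hi3 : r ^ i = r ^ (i % 3) := by
    conv_lhs => rw [← Int.mul_ediv_add_emod i 3, zpow_add, zpow_mul,
      show r ^ (3 : ℤ) = 1 by exact_mod_cast hr3, one_zpow, one_mul]
  rcases (show i % 3 = 0 ∨ i % 3 = 1 ∨ i % 3 = 2 by omega) with e | e | e <;> rw [e] at hi3
  · exact absurd (by rw [hij, hi3, zpow_zero]) hX1
  · exact Or.inl (by rw [hij, hi3, zpow_one])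
  · exact Or.inr (by rw [hij, hi3, zpow_two])

/-- The homomorphism from the presented group. -/
theorem exists_hom {Ψ : S3 →* G} (hΨ : Model z x t w r Q π Ψ) :
    ∃ (d : G) (φ : Cfsg.Spor.Suz →* G), Turned z t r d (Ψ mB) ∧
      (∀ k : ℕ, k < 7 → gens Ψ t d k ∈ φ.range) ∧ φ (PresentedGroup.of .a) = z ∧
      φ (PresentedGroup.of .e) = t ∧ r ∈ φ.range := by
  obtain ⟨⟨d, hdd, hdr, hdt, hdz, hdb⟩, hgo, hW⟩ := S.exists_d hΨ
  have h : Turned z t r d (Ψ mB) := ⟨hdd, hdr, hdt, hdz, hdb⟩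
  obtain ⟨hdf, hdg, -⟩ := S.d_sides hΨ h
  obtain ⟨hcQ, h4, h8⟩ := S.cd_pow hΨ h
  have h5 := S.five_word hΨ h hgo hW
  obtain ⟨-, -, -, -, -, -, htt, ht1, hww, htw, -⟩ := S.base.cfg.rels
  obtain ⟨hr3, -, -, hrw⟩ := S.rot
  have sq : ∀ A, SC (A * A) → Ψ A * Ψ A = 1 := fun A hA => by rw [← map_mul]; exact hΨ.scalar _ hA
  obtain ⟨-, saa, sbb, scc, sff, sgg⟩ := Iso.mu_facts
  have te : ∀ A, Commute (Ψ A) t := fun A => (mem_Kg.mp (hΨ.mem A).1).1
  have pw : ∀ (A B : S3) (n : ℕ), SC ((A * B) ^ n) → (Ψ A * Ψ B) ^ n = 1 := fun A B n hA => by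
    rw [← map_mul, ← map_pow]; exact hΨ.scalar _ hA
  have inv2 : ∀ (p q : G) (n : ℕ), p * p = 1 → q * q = 1 → (p * q) ^ n = 1 → (q * p) ^ n = 1 := fun p q n hp hq e => by
    rw [show q * p = (p * q)⁻¹ by
      rw [mul_inv_rev, inv_eq_of_mul_eq_one_right hp, inv_eq_of_mul_eq_one_right hq], inv_pow, e, inv_one]
  let τ := gens Ψ t d
  have hτ : ∀ k, τ k * τ k = 1 := by
    intro k
    rcases k with _ | _ | _ | _ | _ | _ | _ | k <;>
      simp [τ, gens, sq _ saa, sq _ sbb, sq _ scc, sq _ sff, sq _ sgg, hdd, htt]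
  have ez : Ψ mA = z := hΨ.val_a
  -- the relators of the graph
  have cox : ∀ i < 7, ∀ j < 7, i ≤ j → (τ i * τ j) ^ presSuz.m i j = 1 := by
    intro i hi j hj hij
    rcases eq_or_lt_of_le hij with rfl | hlt
    · rw [show presSuz.m i i = 1 by interval_cases i <;> rfl, pow_one]
      exact hτ i
    interval_cases i <;> interval_cases j
    · exact pw _ _ 5 Iso.rel_ab.1
    · exact pw _ _ 2 Iso.rel_comm.1
    · exact pow_two_of_comm (show Ψ mA * d = d * Ψ mA by rw [ez]; exact hdz.symm) (sq _ saa) hdd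
    · exact pow_two_of_comm (te _) (sq _ saa) htt
    · exact pw _ _ 2 Iso.rel_comm.2.1
    · exact pw _ _ 2 Iso.rel_comm.2.2.1
    · exact pw _ _ 3 Iso.rel_bc
    · exact pow_two_of_comm hdb.symm (sq _ sbb) hdd
    · exact pow_two_of_comm (te _) (sq _ sbb) htt
    · exact pw _ _ 3 Iso.rel_bf
    · exact inv2 _ _ 3 (sq _ sgg) (sq _ sbb) (pw _ _ 3 Iso.rel_bg)
    · exact h8
    · exact pow_two_of_comm (te _) (sq _ scc) htt
    · exact pw _ _ 2 Iso.rel_comm.2.2.2.1
    · exact pw _ _ 2 Iso.rel_comm.2.2.2.2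
    · exact hdt
    · exact pow_two_of_comm hdf hdd (sq _ sff)
    · exact pow_two_of_comm hdg hdd (sq _ sgg)
    · exact pow_two_of_comm (te _).symm htt (sq _ sff)
    · exact pow_two_of_comm (te _).symm htt (sq _ sgg)
    · exact pw _ _ 4 Iso.rel_fg.1
  have hXt : ((Ψ mB * Ψ mC * d * Ψ mC * d) ^ 5 * t) ^ 3 = 1 := by
    have hr' : r⁻¹ = r * r := by rw [inv_eq_iff_mul_eq_one, ← hr3]; simp [pow_succ, mul_assoc]
    have hrt : r * t = w * r := by rw [← S.hw]; group
    have hrw' : r * w = t * w * r := by rw [← hrw]; group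
    have e3 : r * (r * r) = 1 := by rw [← hr3]; simp [pow_succ, mul_assoc]
    have e1 : (r * t) ^ 3 = 1 := by
      calc (r * t) ^ 3 = r * t * (r * t) * (r * t) := by simp only [pow_succ, pow_zero, one_mul]
        _ = w * (r * w) * r * (w * r) := by rw [hrt]; simp only [mul_assoc]
        _ = w * (t * w) * r * (r * w) * r := by
          conv_lhs => rw [hrw']
          simp only [mul_assoc]
        _ = w * (t * w) * (r * t) * w * r * r := by rw [hrw']; simp only [mul_assoc]
        _ = w * (t * w) * w * (r * w) * r * r := by rw [hrt]; simp only [mul_assoc]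
        _ = w * (t * w) * w * (t * w) * (r * (r * r)) := by rw [hrw']; simp only [mul_assoc]
        _ = 1 := by
          rw [e3, mul_one]
          simp only [mul_assoc]
          rw [← mul_assoc w w (t * w), hww, one_mul, ← mul_assoc t t w, htt, one_mul, hww]
    rcases h5 with e | e <;> rw [e]
    · exact e1
    · rw [show r * r * t = t * ((r * t)⁻¹) * t⁻¹ by
        rw [mul_inv_rev, hr', inv_eq_of_mul_eq_one_right htt, ← mul_assoc, htt, one_mul], conj_pow, inv_pow, e1,
        inv_one, mul_one, mul_inv_cancel]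
  have hrel : ∀ v ∈ presSuz.rels, (v.map τ).prod = 1 := by
    intro v hv
    simp only [CosetEnum.Pres.rels, List.mem_append, List.mem_flatMap, List.mem_range, List.mem_map,
      List.mem_filter] at hv
    rcases hv with ⟨i, hi, j, ⟨hj, hij⟩, rfl⟩ | hv
    · rw [prod_coxWord]
      exact cox i hi j hj (of_decide_eq_true hij)
    · have hfg : Ψ mA * ((Ψ mF * Ψ mG) ^ 2)⁻¹ = 1 := by
        rw [← map_mul, ← map_pow, ← map_inv, ← map_mul]; exact hΨ.scalar _ Iso.rel_fg.2
      have habcf : (Ψ mA * Ψ mB * Ψ mC * Ψ mF) ^ 5 = 1 := by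
        rw [← map_mul, ← map_mul, ← map_mul, ← map_pow]; exact hΨ.scalar _ Iso.rel_abcf
      have hbfg : (Ψ mB * Ψ mF * Ψ mG) ^ 5 = 1 := by
        rw [← map_mul, ← map_mul, ← map_pow]; exact hΨ.scalar _ Iso.rel_bfg
      have hcd : Ψ mA * ((Ψ mC * d) ^ 4)⁻¹ = 1 := by rw [h4, ez, mul_inv_cancel]
      have hi : ∀ k, (τ k)⁻¹ = τ k := fun k => inv_eq_of_mul_eq_one_right (hτ k)
      simp only [τ] at hi
      have i2 := hi 2; have i3 := hi 3; have i5 := hi 5; have i6 := hi 6
      simp only [gens, List.getD_cons_zero, List.getD_cons_succ] at i2 i3 i5 i6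
      simp only [presSuz, CosetEnum.extraWSuz, List.mem_cons, List.not_mem_nil, or_false] at hv
      rcases hv with rfl | rfl | rfl | rfl | rfl <;>
        simp only [τ, gens, List.map_cons, List.map_nil, List.prod_cons, List.prod_nil, List.getD_cons_zero,
          List.getD_cons_succ, mul_one]
      · simpa [pow_succ, mul_assoc, mul_inv_rev, i2, i3] using hcd
      · simpa [pow_succ, mul_assoc, mul_inv_rev, i5, i6] using hfg
      · simpa [pow_succ, mul_assoc] using habcf
      · simpa [pow_succ, mul_assoc] using hbfg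
      · simpa [pow_succ, mul_assoc] using hXt
  obtain ⟨φ, hφ⟩ := CosetEnum.Pres.exists_lift presSuz τ hτ hrel
  have hg : ∀ k : ℕ, k < 7 → τ k ∈ MonoidHom.range φ := fun k hk => by
    interval_cases k
    exacts [⟨_, hφ .a⟩, ⟨_, hφ .b⟩, ⟨_, hφ .c⟩, ⟨_, hφ .d⟩, ⟨_, hφ .e⟩, ⟨_, hφ .f⟩, ⟨_, hφ .g⟩]
  refine ⟨d, φ, h, hg, (hφ .a).trans ez, hφ .e, ?_⟩
  have hX : (τ 1 * τ 2 * τ 3 * τ 2 * τ 3) ^ 5 ∈ MonoidHom.range φ :=
    pow_mem (mul_mem (mul_mem (mul_mem (mul_mem (hg 1 (by norm_num)) (hg 2 (by norm_num))) (hg 3 (by norm_num)))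
      (hg 2 (by norm_num))) (hg 3 (by norm_num))) 5
  rcases h5 with e | e
  · exact e ▸ hX
  · have : r = ((Ψ mB * Ψ mC * d * Ψ mC * d) ^ 5) ^ 2 := by
      rw [e, ← pow_two r, ← pow_mul, show 2 * 2 = 3 + 1 from rfl, pow_add, hr3, one_mul, pow_one]
    rw [this]; exact pow_mem hX 2

end Setting

end CfsgLib.SuzType
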